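import Cfsg.Agent.SimpleFacts.OrthDecomp.Maximal
import Cfsg.Agent.Lib.Forms.Max.PlaneBlocks.Maximal
import Cfsg.Agent.Lib.Classical.OrthForms

/-!
# All decompositions together
-/

set_option autoImplicit false
set_option linter.unusedSectionVars false

namespace Cfsg.Agent.SimpleFacts.OrthDecomp

open Cfsg.Agent.Forms.Max

variable {F : Type*} [Field F] [Fintype F]

theorem card_field_ne_six : Fintype.card F ≠ 6 := by
  intro h
  have h' : IsPrimePow (Fintype.card F) := FiniteField.isPrimePow_card F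
  rw [h, isPrimePow_nat_iff] at h'
  obtain ⟨p, m, hp, hm, e⟩ := h'
  have hdvd : p ∣ 6 := e ▸ dvd_pow_self p hm.ne'
  have hle := Nat.le_of_dvd (by norm_num) hdvd
  rcases Nat.lt_or_ge m 3 with h3 | h3
  · interval_cases m <;> interval_cases p <;> simp_all <;> norm_num at hp
  · have h1 := Nat.pow_le_pow_left hp.two_le m
    have h2 := Nat.pow_le_pow_right (show 1 ≤ 2 by norm_num) h3
    omega

variable {ι : Type} [Fintype ι] [DecidableEq ι] {Q : QuadraticForm F (ι → F)} {t k : ℕ}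
  {D : Fin t → Submodule F (ι → F)}

theorem aniso_of_not_plus (hD : Cfsg.Geo.IsOrthogonalMDecomposition (⇑Q) 2 D) {i : Fin t}
    (h : ¬ Cfsg.Geo.IsPlusTypeOn (⇑Q) (D i)) : PlaneBlocks.Aniso Q (D i) := by
  intro x hx hQx
  by_contra hx0
  refine h ⟨Submodule.span F {x}, (Submodule.span_singleton_le_iff_mem _ _).2 hx, fun y hy => ?_, ?_⟩
  · obtain ⟨c, rfl⟩ := Submodule.mem_span_singleton.1 hy
    rw [Classical.Orth.map_smul', hQx, mul_zero]
  · rw [finrank_span_singleton hx0, hD.decomp.decomp.finrank_eq]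

theorem plus_of_iso {i j : Fin t} (hD : Cfsg.Geo.IsOrthogonalMDecomposition (⇑Q) k D)
    (h : Cfsg.Geo.IsPlusTypeOn (⇑Q) (D i)) : Cfsg.Geo.IsPlusTypeOn (⇑Q) (D j) := by
  obtain ⟨U, hUW, hU, hdim⟩ := h
  obtain ⟨e, he⟩ := hD.isometric i j
  let f : U →ₗ[F] (ι → F) := (D j).subtype.comp (e.toLinearMap.comp (Submodule.inclusion hUW))
  have hf : Function.Injective f := fun a b hab =>
    Submodule.inclusion_injective hUW (e.injective (Subtype.ext hab))
  refine ⟨LinearMap.range f, ?_, ?_, ?_⟩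
  · rintro _ ⟨u, rfl⟩; exact (e _).2
  · rintro _ ⟨u, rfl⟩
    exact (he _).trans (hU u.1 u.2)
  · rw [LinearMap.finrank_range_of_inj hf, hdim, hD.decomp.decomp.finrank_eq, hD.decomp.decomp.finrank_eq]

/-- maximality for every size of member and every field -/
theorem maximal_all (hQ : (QuadraticMap.polarBilin Q).Nondegenerate)
    (hD : Cfsg.Geo.IsOrthogonalMDecomposition (⇑Q) k D) (hk : 2 ≤ k) (hn : 11 ≤ Fintype.card ι)
    (hodd : Odd k → Odd (Fintype.card F))
    (h3 : Fintype.card F = 3 → k ≠ 2 ∧ k ≠ 3)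
    (hplane : k = 2 → (∀ i, ¬ Cfsg.Geo.IsPlusTypeOn (⇑Q) (D i)) ∨ 7 ≤ Fintype.card F)
    (hsolid : Fintype.card F = 2 → k = 4 → ∀ i, ¬ Cfsg.Geo.IsPlusTypeOn (⇑Q) (D i)) :
    Cfsg.Geo.IsMaximalIn (Cfsg.Geo.omegaGL ⇑Q)
      (Cfsg.Geo.decompositionStabilizer D ⊓ Cfsg.Geo.omegaGL ⇑Q) := by
  rcases Nat.lt_or_ge k 3 with hk3 | hk3
  · obtain rfl : k = 2 := by omega
    have hc := OrthBlocks.card_eq hD
    refine PlaneBlocks.maximal hQ hD (by omega) (fun h => (h3 h).1 rfl) ?_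
    exact (hplane rfl).imp_left fun h i => aniso_of_not_plus hD (h i)
  by_cases h2 : (2 : F) = 0
  · have h4 : 4 ≤ k := by
      by_contra h4
      have h3' : k = 3 := by omega
      exact Classical.OrthForms.two_ne_zero_of_odd (hodd (h3' ▸ by decide)) h2
    exact maximal_even hQ h2 hD h4 (by omega) hsolid
  · refine OrthBlocks.maximal hQ hD hk3 (by omega) (fun hk' => ?_) h2
    have h1 := Fintype.one_lt_card (α := F)
    obtain ⟨r, hr⟩ := hodd (hk' ▸ by decide)
    have := h3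
    by_contra h5
    exact (h3 (by omega)).2 hk'

end Cfsg.Agent.SimpleFacts.OrthDecomp
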