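import Cfsg.Agent.SimpleFacts.OrthDecomp.KFour

/-!
# Maximality in characteristic two, members of dimension at least four
-/

set_option autoImplicit false
set_option linter.unusedSectionVars false

namespace Cfsg.Agent.SimpleFacts.OrthDecomp

open Matrix Cfsg.Agent.Forms Cfsg.Agent.Forms.QuadStd Cfsg.Agent.Forms.Reflections Cfsg.Agent.Classical.Orth
open Cfsg.Agent.Forms.Max

variable {F : Type*} [Field F] [Fintype F] {ι : Type} [Fintype ι] [DecidableEq ι]
variable {Q : QuadraticForm F (ι → F)} {t k : ℕ} {D : Fin t → Submodule F (ι → F)}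

/-- maximality in characteristic two, except hyperbolic solids over two elements -/
theorem maximal_even (hQ : (QuadraticMap.polarBilin Q).Nondegenerate) (h2 : (2 : F) = 0)
    (hD : Cfsg.Geo.IsOrthogonalMDecomposition (⇑Q) k D) (hk : 4 ≤ k) (hn : 9 ≤ Fintype.card ι)
    (hex : Fintype.card F = 2 → k = 4 → ∀ i, ¬ Cfsg.Geo.IsPlusTypeOn (⇑Q) (D i)) :
    Cfsg.Geo.IsMaximalIn (Cfsg.Geo.omegaGL ⇑Q)
      (Cfsg.Geo.decompositionStabilizer D ⊓ Cfsg.Geo.omegaGL ⇑Q) := by
  have htl := hD.decomp.decomp.two_le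
  let S₀ : Setup Q t k := ⟨hQ, D, hD, by omega, hn, ⊤, fun _ _ _ => trivial⟩
  refine maximal_of hQ hn hD (by omega) ?_ fun S hS g hg hgm =>
    Setup.omega_le_four h2 hk (fun hF h4 => hS ▸ hex hF h4) hg hgm
  let i : Fin t := ⟨0, by omega⟩
  let j : Fin t := ⟨1, by omega⟩
  have hij : i ≠ j := fun e => absurd (congrArg Fin.val e) zero_ne_one
  obtain ⟨u, hu, hQu⟩ := Setup.block_value (S := S₀) i (one_ne_zero (α := F))
  obtain ⟨z, hz, hz0, hQz⟩ := Orth.exists_sing hQ (S := D j)
    (by rw [hD.decomp.decomp.finrank_eq]; omega)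
  have hu0 : u ≠ 0 := fun h => by rw [h, QuadraticMap.map_zero] at hQu; exact zero_ne_one hQu
  have hQv : Q (u + z) = 1 := by rw [qadd, hQu, hQz, Setup.orth (S := S₀) hij hu hz, add_zero, add_zero]
  refine ⟨i, u, hu, u + z, by rw [hQv]; exact one_ne_zero, hQu.trans hQv.symm, fun l hl => ?_⟩
  have hi : S₀.pi i (u + z) = u := by rw [map_add, Setup.pi_self (S := S₀) (x := u) hu, Setup.pi_other (S := S₀) (x := z) hij hz, add_zero]
  have hj : S₀.pi j (u + z) = z := by rw [map_add, Setup.pi_self (S := S₀) (x := z) hz, Setup.pi_other (S := S₀) (x := u) hij.symm hu, zero_add]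
  rcases eq_or_ne l i with rfl | hli
  · exact hz0 (by rw [← hj]; exact Setup.pi_other hij.symm hl)
  · exact hu0 (by rw [← hi]; exact Setup.pi_other (Ne.symm hli) hl)

end Cfsg.Agent.SimpleFacts.OrthDecomp
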