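import Mathlib
import Cfsg.Agent.Lib.Forms.Max.OrthBase
import Cfsg.Agent.Lib.Forms.Max.OrthPair
import Cfsg.Agent.Lib.Forms.Max.OrthBlocks
import Cfsg.Agent.Lib.Forms.Bases

/-!
# Orthogonal decompositions: vectors whose reflection agrees with a block reflection modulo a subgroup

The subgroup `M` contains the elements of Omega permuting the members.  `InR v` says that the product of the
reflection in `v` with the reflection in some vector of the same value in a member lies in `M`.
-/

set_option autoImplicit false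
set_option linter.unusedSectionVars false

namespace Cfsg.Agent.SimpleFacts.OrthDecomp

open Matrix Cfsg.Agent.Forms Cfsg.Agent.Forms.QuadStd Cfsg.Agent.Forms.Reflections Cfsg.Agent.Classical.Orth
open Cfsg.Agent.Forms.Max.OrthPair (InE inE_add inE_neg inE_map inE_flip)
open Cfsg.Agent.Forms.Max

variable {F : Type*} [Field F] [Fintype F] {ι : Type} [Fintype ι] [DecidableEq ι]

/-- a decomposition and a subgroup containing the permuting part of Omega -/
structure Setup (Q : QuadraticForm F (ι → F)) (t k : ℕ) where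
  nd : (QuadraticMap.polarBilin Q).Nondegenerate
  D : Fin t → Submodule F (ι → F)
  dec : Cfsg.Geo.IsOrthogonalMDecomposition (⇑Q) k D
  two_k : 2 ≤ k
  big : 9 ≤ Fintype.card ι
  M : Subgroup (Cfsg.isometryGroup F ⇑Q)
  perm : OrthBlocks.PermM D M

variable {Q : QuadraticForm F (ι → F)} {t k : ℕ} {S : Setup Q t k}

local notation "Vec" => (ι → F)
local notation "B" => QuadraticMap.polar Q
set_option quotPrecheck false in
local notation "Iso" => Cfsg.isometryGroup F ⇑Q

theorem qadd (x y : Vec) : Q (x + y) = Q x + Q y + B x y := Classical.Orth.map_add' x y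

theorem qsub (x y : Vec) : Q (x - y) = Q x + Q y - B x y := Classical.Orth.map_sub' x y

theorem qsmul (c : F) (x : Vec) : Q (c • x) = c * c * Q x := Classical.Orth.map_smul' c x

theorem polar_sum_right {α : Type*} (s : Finset α) (x : Vec) (f : α → Vec) :
    B x (∑ i ∈ s, f i) = ∑ i ∈ s, B x (f i) := map_sum (polB Q x) f s

theorem value_sum {α : Type*} [DecidableEq α] (s : Finset α) (f : α → Vec)
    (h : ∀ i ∈ s, ∀ j ∈ s, i ≠ j → B (f i) (f j) = 0) : Q (∑ i ∈ s, f i) = ∑ i ∈ s, Q (f i) := by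
  induction s using Finset.induction with
  | empty => simp
  | insert a s ha ih =>
    rw [Finset.sum_insert ha, Finset.sum_insert ha, qadd, polar_sum_right,
      Finset.sum_eq_zero fun j hj => h a (Finset.mem_insert_self _ _) j (Finset.mem_insert_of_mem hj)
        (fun e : a = j => ha (e ▸ hj)),
      add_zero, ih fun i hi j hj => h i (Finset.mem_insert_of_mem hi) j (Finset.mem_insert_of_mem hj)]

theorem reflect_inv (v : Vec) : (reflect Q v : Iso)⁻¹ = reflect Q v := inv_eq_of_mul_eq_one_right (reflect_sq v)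

theorem reflect_fix {v x : Vec} (h : B v x = 0) : act (reflect Q v) x = x := by
  rw [act_reflect, h, mul_zero, zero_smul, sub_zero]

/-- a reflection moves one of two vectors of equal value to the other -/
theorem reflect_diff {x y : Vec} (h : Q y = Q x) (hne : Q (y - x) ≠ 0) : act (reflect Q (y - x)) x = y := by
  have hB : B (y - x) x = -Q (y - x) := by
    rw [QuadraticMap.polar_sub_left, polar_self', qsub, h]; ring
  rw [act_reflect, hB, mul_neg, inv_mul_cancel₀ hne, neg_smul, one_smul, sub_neg_eq_add, add_sub_cancel]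

/-- the product of two reflections whose vectors differ by an orthogonal singular vector -/
theorem reflect_pair_eich {z y : Vec} (hz : Q z = 0) (hzy : B z y = 0) (hy : Q y ≠ 0) (s : F) :
    reflect Q y * reflect Q (y + s • z) =
      eich z ((s / Q y) • y) hz (by rw [QuadraticMap.polar_smul_right, hzy, smul_zero]) := by
  have hyz : B y z = 0 := by rw [QuadraticMap.polar_comm]; exact hzy
  have hQ' : Q (y + s • z) = Q y := by
    rw [qadd, qsmul, hz, QuadraticMap.polar_smul_right, hyz, smul_zero, mul_zero, add_zero, add_zero]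
  refine act_ext fun x => ?_
  rw [act_mul, act_reflect y, act_reflect (y + s • z), act_eich, hQ', qsmul]
  simp only [QuadraticMap.polar_sub_right, QuadraticMap.polar_smul_right, QuadraticMap.polar_add_left,
    QuadraticMap.polar_add_right, QuadraticMap.polar_smul_left, polar_self', hyz, smul_eq_mul,
    QuadraticMap.polar_comm _ x y, QuadraticMap.polar_comm _ x z]
  match_scalars <;> field_simp <;> ring

/-- every nondegenerate subspace of dimension at least two represents every non-zero value -/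
theorem exists_value_in {W : Submodule F Vec} (hW : ∀ r ∈ W, r ≠ 0 → ∃ s ∈ W, B r s ≠ 0)
    (h2W : 2 ≤ Module.finrank F W) {c : F} (hc : c ≠ 0) : ∃ x ∈ W, Q x = c := by
  by_cases h2 : (2 : F) = 0
  · obtain ⟨x, hx, hQx⟩ : ∃ x ∈ W, Q x ≠ 0 := by
      by_contra hall
      push Not at hall
      obtain ⟨r, hr, hr0⟩ := Submodule.exists_mem_ne_zero_of_ne_bot (p := W) fun e => by
        rw [e, finrank_bot] at h2W; omega
      obtain ⟨s, hs, hne⟩ := hW r hr hr0
      exact hne (Orth.polar_of_sing hall hr hs)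
    have : CharP F 2 := CharTwo.of_one_ne_zero_of_two_eq_zero one_ne_zero h2
    obtain ⟨r, hr⟩ : IsSquare (c / Q x) := FiniteField.isSquare_of_char_two (ringChar.eq F 2) _
    exact ⟨r • x, W.smul_mem _ hx, by rw [qsmul, ← hr, div_mul_cancel₀ _ hQx]⟩
  · obtain ⟨u, hu, hBu, -⟩ := Bases.exists_symm_unit h2 (polB Q) ⟨fun u v => QuadraticMap.polar_comm _ u v⟩ W
      (fun u hu h => by
        by_contra h0
        obtain ⟨s, hs, hne⟩ := hW u hu h0
        exact hne (h s hs))
      h2W (2 * c) (mul_ne_zero h2 hc)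
    refine ⟨u, hu, ?_⟩
    rw [polB_apply, polar_self'] at hBu
    exact mul_left_cancel₀ h2 hBu

namespace Setup

/-! ### Components -/

/-- the component in a member -/
noncomputable def pi (S : Setup Q t k) (i : Fin t) : (ι → F) →ₗ[F] (ι → F) := OrthBlocks.cmp S.dec i

theorem pi_mem (i : Fin t) (x : Vec) : S.pi i x ∈ S.D i := OrthBlocks.cmp_mem S.dec i x

theorem pi_pair (i : Fin t) (x : Vec) {y : Vec} (hy : y ∈ S.D i) : B (S.pi i x) y = B x y :=
  OrthBlocks.cmp_pair S.dec i x hy

theorem pair_pi (i : Fin t) (x : Vec) {y : Vec} (hy : y ∈ S.D i) : B y (S.pi i x) = B y x :=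
  OrthBlocks.pair_cmp S.dec i x hy

theorem pi_self {i : Fin t} {x : Vec} (hx : x ∈ S.D i) : S.pi i x = x := OrthBlocks.cmp_self S.dec hx

theorem pi_other {i j : Fin t} (hij : i ≠ j) {x : Vec} (hx : x ∈ S.D j) : S.pi i x = 0 :=
  OrthBlocks.cmp_other S.dec hij hx

theorem pi_pi (i : Fin t) (x : Vec) : S.pi i (S.pi i x) = S.pi i x := pi_self (pi_mem i x)

theorem orth {i j : Fin t} (hij : i ≠ j) {x y : Vec} (hx : x ∈ S.D i) (hy : y ∈ S.D j) : B x y = 0 :=
  Orth.orth_ne S.dec.decomp hij hx hy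

theorem block_eq {i j : Fin t} {x : Vec} (hx : x ∈ S.D i) (hy : x ∈ S.D j) (h0 : x ≠ 0) : i = j :=
  Orth.index_of_mem S.dec.decomp hx hy h0

theorem block_nd (i : Fin t) : ∀ r ∈ S.D i, r ≠ 0 → ∃ s ∈ S.D i, B r s ≠ 0 := OrthBlocks.nd S.dec i

theorem finrank_block (i : Fin t) : Module.finrank F (S.D i) = k := S.dec.decomp.decomp.finrank_eq i

theorem two_le_rank (i : Fin t) : 2 ≤ Module.finrank F (S.D i) := by rw [finrank_block]; exact S.two_k

theorem two_le (S : Setup Q t k) : 2 ≤ t := S.dec.decomp.decomp.two_le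

theorem sum_pi (x : Vec) : ∑ i, S.pi i x = x := OrthBlocks.sum_cmp S.nd S.dec x

theorem pi_ext {x : Vec} (h : ∀ i, S.pi i x = 0) : x = 0 := OrthBlocks.cmp_ext S.nd S.dec h

theorem mem_of_pi {j : Fin t} {x : Vec} (h : ∀ i, i ≠ j → S.pi i x = 0) : x ∈ S.D j :=
  OrthBlocks.mem_of_cmp S.nd S.dec h

theorem exists_pi_ne {j : Fin t} {x : Vec} (h : x ∉ S.D j) : ∃ i, i ≠ j ∧ S.pi i x ≠ 0 :=
  OrthBlocks.cmp_of_not_mem S.nd S.dec h

theorem value_pi (x : Vec) : Q x = ∑ i, Q (S.pi i x) := by
  conv_lhs => rw [← sum_pi (S := S) x]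
  exact value_sum _ _ fun i _ j _ hij => orth hij (pi_mem i x) (pi_mem j x)

theorem polar_pi (x y : Vec) : B x y = ∑ i, B (S.pi i x) (S.pi i y) := by
  conv_lhs => rw [← sum_pi (S := S) y]
  rw [polar_sum_right]
  exact Finset.sum_congr rfl fun i _ => (pi_pair i x (pi_mem i y)).symm

theorem block_value (i : Fin t) {c : F} (hc : c ≠ 0) : ∃ x ∈ S.D i, Q x = c :=
  exists_value_in (block_nd i) (two_le_rank i) hc

theorem exists_block_ne_zero (i : Fin t) : ∃ x ∈ S.D i, x ≠ 0 :=
  Submodule.exists_mem_ne_zero_of_ne_bot (p := S.D i) fun e => by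
    have := two_le_rank (S := S) i
    rw [e, finrank_bot] at this
    omega

/-! ### Permuting isometries -/

/-- permutes the members -/
def Mono (S : Setup Q t k) (g : Cfsg.isometryGroup F ⇑Q) : Prop :=
  ∃ σ : Equiv.Perm (Fin t), ∀ i, ∀ x ∈ S.D i, act g x ∈ S.D (σ i)

theorem mono_one : S.Mono 1 := ⟨1, fun i x hx => by rw [act_one]; exact hx⟩

theorem mono_mul {g h : Iso} (hg : S.Mono g) (hh : S.Mono h) : S.Mono (g * h) := by
  obtain ⟨σ, hσ⟩ := hg
  obtain ⟨τ, hτ⟩ := hh
  exact ⟨σ * τ, fun i x hx => by rw [act_mul]; exact hσ _ _ (hτ i x hx)⟩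

theorem mono_inv {g : Iso} (hg : S.Mono g) : S.Mono g⁻¹ := by
  obtain ⟨σ, hσ⟩ := hg
  exact ⟨σ⁻¹, OrthBlocks.perm_inv hσ⟩

theorem mem_of_mono {g : Iso} (hg : g ∈ Cfsg.Omega F ⇑Q) (hm : S.Mono g) : g ∈ S.M := S.perm g hg hm

theorem reflect_block {i j : Fin t} {u x : Vec} (hu : u ∈ S.D i) (hx : x ∈ S.D j) :
    act (reflect Q u) x ∈ S.D j := by
  by_cases hij : i = j
  · subst hij
    rw [act_reflect]
    exact (S.D i).sub_mem hx ((S.D i).smul_mem _ hu)
  · rw [reflect_fix (orth hij hu hx)]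
    exact hx

theorem mono_reflect {i : Fin t} {u : Vec} (hu : u ∈ S.D i) : S.Mono (reflect Q u) :=
  ⟨1, fun _ _ hx => reflect_block hu hx⟩

theorem pi_reflect {i : Fin t} {u : Vec} (hu : u ∈ S.D i) (j : Fin t) (x : Vec) :
    S.pi j (act (reflect Q u) x) = if j = i then act (reflect Q u) (S.pi j x) else S.pi j x := by
  by_cases h : j = i
  · subst h
    rw [if_pos rfl, act_reflect, act_reflect, map_sub, map_smul, pi_self hu, pair_pi j x hu]
  · rw [if_neg h, act_reflect, map_sub, map_smul, pi_other h hu, smul_zero, sub_zero]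

theorem pi_mono {g : Iso} {σ : Equiv.Perm (Fin t)} (hg : ∀ i, ∀ x ∈ S.D i, act g x ∈ S.D (σ i)) (i : Fin t)
    (x : Vec) : S.pi (σ i) (act g x) = act g (S.pi i x) := by
  conv_lhs => rw [← sum_pi (S := S) x, map_sum, map_sum]
  rw [Finset.sum_eq_single i (fun j _ hji => pi_other (fun e => hji (σ.injective e).symm) (hg j _ (pi_mem j x)))
    (fun h => absurd (Finset.mem_univ i) h)]
  exact pi_self (hg i _ (pi_mem i x))

end Setup

/-! ### Classes modulo Omega -/

/-- the class modulo Omega -/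
noncomputable def cls : Cfsg.isometryGroup F ⇑Q →* Cfsg.isometryGroup F ⇑Q ⧸ Cfsg.Omega F ⇑Q :=
  QuotientGroup.mk' _

theorem cls_eq_one {g : Iso} : cls g = 1 ↔ g ∈ Cfsg.Omega F ⇑Q := QuotientGroup.eq_one_iff g

theorem cls_comm (a b : Iso ⧸ Cfsg.Omega F ⇑Q) : a * b = b * a := by
  obtain ⟨a, rfl⟩ := QuotientGroup.mk'_surjective _ a
  obtain ⟨b, rfl⟩ := QuotientGroup.mk'_surjective _ b
  exact mul_comm (Abelianization.of a) (Abelianization.of b)

namespace Setup

include S in
theorem pair_omega {z z' : Vec} (hz : Q z ≠ 0) (h : Q z' = Q z) :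
    reflect Q z * reflect Q z' ∈ Cfsg.Omega F ⇑Q := by
  have h5 : 5 ≤ Fintype.card ι := by have := S.big; omega
  obtain ⟨f⟩ := Orth.exists_frame S.nd h5
  have e := (QuotientGroup.eq).1 (reflect_mk_eq S.nd f hz h)
  rwa [reflect_inv, ← omega_eq_eGroup S.nd f h5] at e

include S in
theorem cls_reflect {z z' : Vec} (hz : Q z ≠ 0) (h : Q z' = Q z) :
    cls (reflect Q z) = cls (reflect Q z') := by
  refine eq_of_mul_inv_eq_one ?_
  rw [← map_inv, reflect_inv, ← map_mul, cls_eq_one]
  exact pair_omega (S := S) hz h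

/-- every class is represented by an isometry supported in a given member -/
theorem exists_local (z : Fin t) (g : Iso) : ∃ h : Iso, cls h = cls g ∧ S.Mono h ∧
    ∀ x, S.pi z x = 0 → act h x = x := by
  let L : Subgroup Iso :=
    { carrier := {h | S.Mono h ∧ ∀ x, S.pi z x = 0 → act h x = x}
      one_mem' := ⟨mono_one, fun x _ => act_one x⟩
      mul_mem' := fun {a b} ha hb => ⟨mono_mul ha.1 hb.1, fun x hx => by
        rw [act_mul, hb.2 x hx, ha.2 x hx]⟩
      inv_mem' := fun {a} ha => ⟨mono_inv ha.1, fun x hx => by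
        conv_lhs => rw [← ha.2 x hx]
        exact Spinor.act_inv_cancel a x⟩ }
  have hle : refGroup Q ≤ (L.map cls).comap cls := by
    refine (Subgroup.closure_le _).2 ?_
    rintro _ ⟨v, hv, rfl⟩
    obtain ⟨e, he, hQe⟩ := block_value (S := S) z hv
    refine ⟨reflect Q e, ⟨mono_reflect he, fun x hx => reflect_fix ?_⟩,
      cls_reflect (S := S) (by rw [hQe]; exact hv) hQe.symm⟩
    rw [← pair_pi z x he, hx, QuadraticMap.polar_zero_right]
  have := S.big
  have htop := refGroup_eq_top S.nd (Or.inr (show Fintype.card ι ≠ 4 by omega))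
  obtain ⟨h, hh, e⟩ := hle (htop ▸ Subgroup.mem_top g)
  exact ⟨h, e, hh.1, hh.2⟩

/-! ### The set of vectors -/

/-- vectors whose reflection agrees with a block reflection modulo `M` -/
def InR (S : Setup Q t k) (v : ι → F) : Prop :=
  Q v ≠ 0 ∧ ∃ i, ∃ u ∈ S.D i, Q u = Q v ∧ reflect Q v * reflect Q u ∈ S.M

theorem pair_mem {i j : Fin t} {u u' : Vec} (hu : u ∈ S.D i) (hu' : u' ∈ S.D j) (h0 : Q u ≠ 0)
    (h : Q u' = Q u) : reflect Q u * reflect Q u' ∈ S.M :=
  mem_of_mono (pair_omega (S := S) h0 h) (mono_mul (mono_reflect hu) (mono_reflect hu'))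

theorem inR_single {i : Fin t} {u : Vec} (hu : u ∈ S.D i) (h0 : Q u ≠ 0) : S.InR u :=
  ⟨h0, i, u, hu, rfl, pair_mem hu hu h0 rfl⟩

theorem InR.with_block {v : Vec} (hv : S.InR v) {i : Fin t} {u : Vec} (hu : u ∈ S.D i) (h : Q u = Q v) :
    reflect Q v * reflect Q u ∈ S.M := by
  obtain ⟨h0, j, w, hw, hQw, hm⟩ := hv
  have h1 := mul_mem hm (pair_mem hw hu (by rw [hQw]; exact h0) (h.trans hQw.symm))
  rwa [mul_assoc, ← mul_assoc (reflect Q w), reflect_sq, one_mul] at h1

theorem InR.pair {v w : Vec} (hv : S.InR v) (hw : S.InR w) (h : Q w = Q v) :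
    reflect Q v * reflect Q w ∈ S.M := by
  obtain ⟨-, j, u, hu, hQu, hm⟩ := hw
  have h1 := mul_mem (hv.with_block hu (hQu.trans h)) (inv_mem hm)
  rwa [_root_.mul_inv_rev, reflect_inv, reflect_inv, mul_assoc, ← mul_assoc (reflect Q u), reflect_sq, one_mul] at h1

theorem inR_of_pair {v w : Vec} (hw : S.InR w) (h : Q w = Q v) (hm : reflect Q v * reflect Q w ∈ S.M) :
    S.InR v := by
  obtain ⟨h0, j, u, hu, hQu, hm'⟩ := hw
  refine ⟨h ▸ h0, j, u, hu, hQu.trans h, ?_⟩
  have h1 := mul_mem hm hm'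
  rwa [mul_assoc, ← mul_assoc (reflect Q w), reflect_sq, one_mul] at h1

theorem InR.refl {v w : Vec} (hv : S.InR v) (hw : S.InR w) (h : Q w = Q v) :
    S.InR (act (reflect Q v) w) := by
  refine inR_of_pair hv (by rw [act_map, h]) ?_
  rw [← Spinor.reflect_conj, reflect_inv, mul_assoc, reflect_sq, mul_one]
  exact hv.pair hw h

theorem InR.neg {v : Vec} (hv : S.InR v) : S.InR (-v) := by
  have := hv.refl hv rfl
  rwa [act_reflect, polar_self', ← mul_assoc, mul_comm _ (2 : F), mul_assoc, inv_mul_cancel₀ hv.1, mul_one,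
    two_smul, sub_add_cancel_right] at this

theorem InR.smul {v : Vec} (hv : S.InR v) {r : F} (hr : r ≠ 0) : S.InR (r • v) := by
  obtain ⟨h0, j, u, hu, hQu, hm⟩ := hv
  refine ⟨by rw [qsmul]; exact mul_ne_zero (mul_ne_zero hr hr) h0, j, r • u, (S.D j).smul_mem _ hu,
    by rw [qsmul, qsmul, hQu], ?_⟩
  rwa [Spinor.reflect_smul _ hr, Spinor.reflect_smul _ hr]

theorem InR.map {v : Vec} (hv : S.InR v) {x : Iso} (hx : x ∈ S.M) {j : Fin t} {u : Vec} (hu : u ∈ S.D j)
    (hQu : Q u = Q v) (hxu : S.InR (act x u)) : S.InR (act x v) := by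
  refine inR_of_pair hxu (by rw [act_map, act_map, hQu]) ?_
  rw [← Spinor.reflect_conj, ← Spinor.reflect_conj]
  have h1 := mul_mem (mul_mem hx (hv.with_block hu hQu)) (inv_mem hx)
  convert h1 using 1
  group

/-- two members of equal value whose difference has that value -/
theorem InR.diff {v w : Vec} (hv : S.InR v) (hw : S.InR w) (h : Q w = Q v) (hd : Q (w - v) = Q v) :
    S.InR (w - v) := by
  have := hv.refl hw h
  have hB : B v w = Q v := by
    have e := qsub (Q := Q) w v
    rw [hd, h, QuadraticMap.polar_comm] at e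
    linear_combination e
  rwa [act_reflect, hB, inv_mul_cancel₀ hv.1, one_smul] at this

theorem InR.map_block {v : Vec} (hv : S.InR v) {g : Iso} (hg : g ∈ S.M) (hm : S.Mono g) :
    S.InR (act g v) := by
  obtain ⟨σ, hσ⟩ := hm
  obtain ⟨i, hi⟩ : ∃ i : Fin t, i.val = 0 := ⟨⟨0, by have := S.two_le; omega⟩, rfl⟩
  obtain ⟨u, hu, hQu⟩ := block_value (S := S) i hv.1
  exact hv.map hg hu hQu (inR_single (hσ i u hu) (by rw [act_map, hQu]; exact hv.1))

/-- vectors with a vanishing component may be moved by every permuting isometry -/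
theorem InR.mono_free {v : Vec} (hv : S.InR v) {z : Fin t} (hz : S.pi z v = 0) {g : Iso} (hg : S.Mono g) :
    S.InR (act g v) := by
  obtain ⟨h, hcls, hm, hfix⟩ := exists_local (S := S) z g
  have hx : g * h⁻¹ ∈ Cfsg.Omega F ⇑Q := cls_eq_one.1 (by rw [map_mul, map_inv, hcls, mul_inv_cancel])
  have := hv.map_block (mem_of_mono hx (mono_mul hg (mono_inv hm))) (mono_mul hg (mono_inv hm))
  have e : act h⁻¹ v = v := by
    conv_lhs => rw [← hfix v hz]
    exact Spinor.act_inv_cancel h v
  rwa [act_mul, e] at this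

end Setup

end Cfsg.Agent.SimpleFacts.OrthDecomp
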