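import Cfsg.Agent.SimpleFacts.OrthDecomp.Basic

/-!
# Blocks of dimension at least four in characteristic two
-/

set_option autoImplicit false
set_option linter.unusedSectionVars false

namespace Cfsg.Agent.SimpleFacts.OrthDecomp

open Matrix Cfsg.Agent.Forms Cfsg.Agent.Forms.QuadStd Cfsg.Agent.Forms.Reflections Cfsg.Agent.Classical.Orth
open Cfsg.Agent.Forms.Max

variable {F : Type*} [Field F] [Fintype F] {ι : Type} [Fintype ι] [DecidableEq ι]
variable {Q : QuadraticForm F (ι → F)} {W : Submodule F (ι → F)}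

local notation "Vec" => (ι → F)
local notation "B" => QuadraticMap.polar Q

theorem exists_sqrt (h2 : (2 : F) = 0) (a : F) : ∃ r : F, r * r = a := by
  have : CharP F 2 := CharTwo.of_one_ne_zero_of_two_eq_zero one_ne_zero h2
  obtain ⟨r, hr⟩ : IsSquare a := FiniteField.isSquare_of_char_two (ringChar.eq F 2) a
  exact ⟨r, hr.symm⟩

theorem polar_self_two (h2 : (2 : F) = 0) (x : Vec) : B x x = 0 := by rw [polar_self', h2, zero_mul]

variable (h2 : (2 : F) = 0) (hW : ∀ r ∈ W, r ≠ 0 → ∃ s ∈ W, QuadraticMap.polar Q r s ≠ 0)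
  (hk : 4 ≤ Module.finrank F W)

include h2 hW hk

theorem exists_dual {x : Vec} (hx : x ∈ W) (hx0 : x ≠ 0) : ∃ y ∈ W, B x y = 1 := by
  obtain ⟨s, hs, hne⟩ := hW x hx hx0
  exact ⟨(B x s)⁻¹ • s, W.smul_mem _ hs,
    by rw [QuadraticMap.polar_smul_right, smul_eq_mul, inv_mul_cancel₀ hne]⟩

/-- the complement of a pair of vectors with product one -/
theorem perp_pair {x y : Vec} (hx : x ∈ W) (hy : y ∈ W) (hxy : B x y = 1) :
    let P : Submodule F (ι → F) := W ⊓ LinearMap.ker (polB Q x) ⊓ LinearMap.ker (polB Q y)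
    (∀ r ∈ P, r ≠ 0 → ∃ s ∈ P, B r s ≠ 0) ∧ 2 ≤ Module.finrank F P := by
  intro P
  have hyx : B y x = 1 := by rw [QuadraticMap.polar_comm, hxy]
  refine ⟨fun r hr hr0 => ?_, ?_⟩
  · obtain ⟨s, hs, hne⟩ := hW r hr.1.1 hr0
    refine ⟨s + B y s • x + B x s • y, ⟨⟨W.add_mem (W.add_mem hs (W.smul_mem _ hx)) (W.smul_mem _ hy), ?_⟩, ?_⟩, ?_⟩
    · show B x _ = 0
      simp only [QuadraticMap.polar_add_right, QuadraticMap.polar_smul_right, polar_self_two h2, hxy, smul_eq_mul]
      linear_combination B x s * h2
    · show B y _ = 0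
      simp only [QuadraticMap.polar_add_right, QuadraticMap.polar_smul_right, polar_self_two h2, hyx, smul_eq_mul]
      linear_combination B y s * h2
    · have e1 : B r x = 0 := by rw [QuadraticMap.polar_comm]; exact hr.1.2
      have e2 : B r y = 0 := by rw [QuadraticMap.polar_comm]; exact hr.2
      simp only [QuadraticMap.polar_add_right, QuadraticMap.polar_smul_right, e1, e2, smul_zero, add_zero]
      exact hne
  · have hle : ∀ (U : Submodule F Vec) (z : Vec),
        Module.finrank F U ≤ Module.finrank F ↥(U ⊓ LinearMap.ker (polB Q z)) + 1 := by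
      intro U z
      have h1 := Submodule.finrank_sup_add_finrank_inf_eq U (LinearMap.ker (polB Q z))
      have h3 := Submodule.finrank_le (U ⊔ LinearMap.ker (polB Q z))
      have h4 := LinearMap.finrank_range_add_finrank_ker (polB Q z)
      have h5 := Submodule.finrank_le (LinearMap.range (polB Q z))
      rw [Module.finrank_self] at h5
      omega
    have k1 := hle W x
    have k2 := hle (W ⊓ LinearMap.ker (polB Q x)) y
    show 2 ≤ Module.finrank F ↥(W ⊓ LinearMap.ker (polB Q x) ⊓ LinearMap.ker (polB Q y))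
    omega

/-- product one with a given vector and any value -/
theorem exists_meet_value {x : Vec} (hx : x ∈ W) (hx0 : x ≠ 0) (c : F) : ∃ y ∈ W, B x y = 1 ∧ Q y = c := by
  obtain ⟨y, hy, hxy⟩ := exists_dual h2 hW hk hx hx0
  obtain ⟨hP, hP2⟩ := perp_pair h2 hW hk hx hy hxy
  by_cases h0 : Q y = c
  · exact ⟨y, hy, hxy, h0⟩
  obtain ⟨z, hz, hQz⟩ := exists_value_in hP hP2 (sub_ne_zero.2 (Ne.symm h0))
  have hyz : B y z = 0 := hz.2
  have hxz : B x z = 0 := hz.1.2
  exact ⟨y + z, W.add_mem hy hz.1.1, by rw [QuadraticMap.polar_add_right, hxy, hxz, add_zero],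
    by rw [qadd, hyz, hQz, add_zero]; ring⟩

/-- two orthogonal vectors meet a common non-singular vector, except in hyperbolic solids over two elements -/
theorem exists_link (hex : Fintype.card F = 2 → Module.finrank F W = 4 → ¬ Cfsg.Geo.IsPlusTypeOn (⇑Q) W)
    {x x' : Vec} (hx : x ∈ W) (hx' : x' ∈ W) (hx0 : x ≠ 0) (hind : x' ∉ Submodule.span F {x})
    (hB : B x x' = 0) : ∃ e ∈ W, Q e ≠ 0 ∧ B x e ≠ 0 ∧ B x' e ≠ 0 := by
  by_contra hno
  push Not at hno
  obtain ⟨y₁, hy₁, hxy₁⟩ := exists_dual h2 hW hk hx hx0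
  obtain ⟨y₂, hy₂, hxy₂, hx'y₂⟩ : ∃ s ∈ W, B x s = 0 ∧ B x' s ≠ 0 := by
    by_contra hc
    push Not at hc
    refine hind (Submodule.mem_span_singleton.2 ⟨B x' y₁, ?_⟩)
    by_contra hne
    obtain ⟨s, hs, hs'⟩ := hW (B x' y₁ • x - x') (W.sub_mem (W.smul_mem _ hx) hx') (sub_ne_zero.2 hne)
    apply hs'
    have h := hc (s - B x s • y₁) (W.sub_mem hs (W.smul_mem _ hy₁))
      (by rw [QuadraticMap.polar_sub_right, QuadraticMap.polar_smul_right, hxy₁, smul_eq_mul, mul_one, sub_self])
    rw [QuadraticMap.polar_sub_right, QuadraticMap.polar_smul_right, smul_eq_mul] at h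
    rw [QuadraticMap.polar_sub_left, QuadraticMap.polar_smul_left, smul_eq_mul]
    linear_combination -h
  set y := y₁ + ((1 - B x' y₁) / B x' y₂) • y₂ with hydef
  have hyW : y ∈ W := W.add_mem hy₁ (W.smul_mem _ hy₂)
  have hxy : B x y = 1 := by
    rw [hydef, QuadraticMap.polar_add_right, QuadraticMap.polar_smul_right, hxy₁, hxy₂, smul_zero, add_zero]
  have hx'y : B x' y = 1 := by
    rw [hydef, QuadraticMap.polar_add_right, QuadraticMap.polar_smul_right, smul_eq_mul, div_mul_cancel₀ _ hx'y₂]
    ring
  have hzero : ∀ (c : F), c ≠ 0 → ∀ z ∈ W, B x z = 0 → B x' z = 0 → Q (c • y + z) = 0 := by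
    intro c hc z hz h1 h3
    by_contra hne
    refine hc ?_
    have := hno (c • y + z) (W.add_mem (W.smul_mem _ hyW) hz) hne (by
      rw [QuadraticMap.polar_add_right, QuadraticMap.polar_smul_right, hxy, h1, add_zero, smul_eq_mul, mul_one]
      exact hc)
    rwa [QuadraticMap.polar_add_right, QuadraticMap.polar_smul_right, hx'y, h3, add_zero, smul_eq_mul, mul_one] at this
  have hQy : Q y = 0 := by
    have := hzero 1 one_ne_zero 0 W.zero_mem (QuadraticMap.polar_zero_right _ _) (QuadraticMap.polar_zero_right _ _)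
    rwa [one_smul, add_zero] at this
  have hyx : B y x = 1 := by rw [QuadraticMap.polar_comm, hxy]
  have hx'x : B x' x = 0 := by rw [QuadraticMap.polar_comm, hB]
  have hc1 : ∀ c : F, c ≠ 0 → c + Q x = 0 := fun c hc => by
    have := hzero c hc x hx (polar_self_two h2 x) hx'x
    rw [qadd, qsmul, hQy, QuadraticMap.polar_smul_left, hyx, smul_eq_mul] at this
    linear_combination this
  have hQx : Q x = 1 := by linear_combination hc1 1 one_ne_zero - h2
  have hF : Fintype.card F = 2 := by
    classical
    refine le_antisymm ?_ Fintype.one_lt_card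
    calc Fintype.card F = (Finset.univ : Finset F).card := Finset.card_univ.symm
      _ ≤ ({0, 1} : Finset F).card := Finset.card_le_card fun c _ => by
          rcases eq_or_ne c 0 with rfl | hc
          · simp
          · have h1 : c = 1 := by linear_combination hc1 c hc - hQx - h2
            simp [h1]
      _ ≤ 2 := Finset.card_le_two
  by_cases h4 : Module.finrank F W = 4
  · refine hex hF h4 ⟨Submodule.span F {y, x + x'}, ?_, ?_, ?_⟩
    · rw [Submodule.span_le]
      rintro a (rfl | rfl)
      exacts [hyW, W.add_mem hx hx']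
    · have hQx' : Q x' = 1 := by
        have := hzero 1 one_ne_zero x' hx' hB (polar_self_two h2 x')
        rw [one_smul, qadd, hQy, QuadraticMap.polar_comm _ y x', hx'y] at this
        linear_combination this - h2
      intro a ha
      obtain ⟨r, s, rfl⟩ := Submodule.mem_span_pair.1 ha
      simp only [qadd, qsmul, QuadraticMap.polar_smul_left, QuadraticMap.polar_smul_right,
        QuadraticMap.polar_add_right, hQy, hQx, hQx', hB, hyx, QuadraticMap.polar_comm _ y x', hx'y, smul_eq_mul]
      linear_combination (s * s + r * s) * h2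
    · have hli : LinearIndependent F ![y, x + x'] := by
        rw [LinearIndependent.pair_iff]
        intro r s h
        have h1 := congrArg (fun a => B x a) h
        simp only [QuadraticMap.polar_add_right, QuadraticMap.polar_smul_right, hxy, polar_self_two h2, hB,
          add_zero, QuadraticMap.polar_zero_right, smul_eq_mul, mul_one, mul_zero] at h1
        refine ⟨h1, ?_⟩
        rw [h1, zero_smul, zero_add] at h
        rcases smul_eq_zero.1 h with h5 | h5
        · exact h5
        · refine absurd (Submodule.mem_span_singleton.2 ⟨-1, ?_⟩) hind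
          rw [neg_smul, one_smul]
          exact (eq_neg_of_add_eq_zero_right h5).symm
      have := finrank_span_eq_card hli
      rw [Matrix.range_cons_cons_empty, Fintype.card_fin] at this
      rw [this, h4]
  · have hBP : ∀ z ∈ W, B x z = 0 → B x' z = 0 → ∀ w ∈ W, B x w = 0 → B x' w = 0 → B z w = 0 := by
      intro z hz a1 a2 w hw b1 b2
      have h1 := hzero 1 one_ne_zero z hz a1 a2
      have h3 := hzero 1 one_ne_zero w hw b1 b2
      have h5 := hzero 1 one_ne_zero (z + w) (W.add_mem hz hw)
        (by rw [QuadraticMap.polar_add_right, a1, b1, add_zero])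
        (by rw [QuadraticMap.polar_add_right, a2, b2, add_zero])
      simp only [one_smul, qadd, hQy, QuadraticMap.polar_add_right] at h1 h3 h5
      linear_combination h5 - h1 - h3
    obtain ⟨z, hz, hz0, hzf⟩ := OrthPair.exists_ne_zero_ker ![polB Q x, polB Q x', polB Q y₁, polB Q y₂] (V := W)
      (by omega)
    have g0 : B x z = 0 := hzf 0
    have g1 : B x' z = 0 := hzf 1
    have g2 : B z y₁ = 0 := by rw [QuadraticMap.polar_comm]; exact hzf 2
    have g3 : B z y₂ = 0 := by rw [QuadraticMap.polar_comm]; exact hzf 3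
    obtain ⟨s, hs, hne⟩ := hW z hz hz0
    set a := -B x s with ha
    set b := -(B x' s + a * B x' y₁) / B x' y₂ with hb
    have hs' : s + a • y₁ + b • y₂ ∈ W := W.add_mem (W.add_mem hs (W.smul_mem _ hy₁)) (W.smul_mem _ hy₂)
    have := hBP z hz g0 g1 _ hs'
      (by rw [QuadraticMap.polar_add_right, QuadraticMap.polar_add_right, QuadraticMap.polar_smul_right,
            QuadraticMap.polar_smul_right, hxy₁, hxy₂, smul_zero, add_zero, smul_eq_mul, mul_one, ha]
          ring)
      (by rw [QuadraticMap.polar_add_right, QuadraticMap.polar_add_right, QuadraticMap.polar_smul_right,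
            QuadraticMap.polar_smul_right, smul_eq_mul, smul_eq_mul, hb, div_mul_cancel₀ _ hx'y₂]
          ring)
    rw [QuadraticMap.polar_add_right, QuadraticMap.polar_add_right, QuadraticMap.polar_smul_right,
      QuadraticMap.polar_smul_right, g2, g3, smul_zero, smul_zero, add_zero, add_zero] at this
    exact hne this

end Cfsg.Agent.SimpleFacts.OrthDecomp
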