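import Cfsg.Agent.SimpleFacts.OrthDecomp.Basic
import Cfsg.Agent.Lib.Forms.Max.SubfieldOrth

/-!
# Root elements from pairs of vectors, the end of the argument, and maximality
-/

set_option autoImplicit false
set_option linter.unusedSectionVars false

namespace Cfsg.Agent.SimpleFacts.OrthDecomp

open Matrix Cfsg.Agent.Forms Cfsg.Agent.Forms.QuadStd Cfsg.Agent.Forms.Reflections Cfsg.Agent.Classical.Orth
open Cfsg.Agent.Forms.Max.OrthPair (InE inE_add inE_neg inE_map inE_flip)
open Cfsg.Agent.Forms.Max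

variable {F : Type*} [Field F] [Fintype F] {ι : Type} [Fintype ι] [DecidableEq ι]
variable {Q : QuadraticForm F (ι → F)} {t k : ℕ}

local notation "Vec" => (ι → F)
local notation "B" => QuadraticMap.polar Q
set_option quotPrecheck false in
local notation "Iso" => Cfsg.isometryGroup F ⇑Q

namespace Setup

variable {S : Setup Q t k}

/-- two vectors of the set differing by an orthogonal singular vector give a root element -/
theorem InR.root {y z : Vec} (hy : S.InR y) (hz : Q z = 0) (hzy : B z y = 0) {s : F}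
    (h : S.InR (y + s • z)) : InE S.M z ((s / Q y) • y) := by
  intro hu huw
  rw [← reflect_pair_eich hz hzy hy.1 s]
  refine hy.pair h ?_
  rw [qadd, qsmul, hz, QuadraticMap.polar_smul_right, QuadraticMap.polar_comm _ y z, hzy, smul_zero, mul_zero,
    add_zero, add_zero]

/-- a root element with a block vector gives a member of the set -/
theorem inR_of_root {i : Fin t} {d z : Vec} (hd : d ∈ S.D i) (hd0 : Q d ≠ 0) (hz : Q z = 0) (hzd : B z d = 0)
    (h : InE S.M z d) : S.InR (d + Q d • z) := by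
  have hdz : B d z = 0 := by rw [QuadraticMap.polar_comm]; exact hzd
  refine inR_of_pair (inR_single hd hd0) ?_ ?_
  · rw [qadd, qsmul, hz, QuadraticMap.polar_smul_right, hdz, smul_zero, mul_zero, add_zero, add_zero]
  · have e := reflect_pair_eich hz hzd hd0 (Q d)
    have hm : reflect Q d * reflect Q (d + Q d • z) ∈ S.M := by
      rw [e, eich_congr (by rw [div_self hd0, one_smul])]
      exact h hz hzd
    have h1 := inv_mem hm
    rwa [_root_.mul_inv_rev, reflect_inv, reflect_inv] at h1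

/-- the end: all vectors of one value -/
theorem omega_le_of_value {c : F} (hc : c ≠ 0) (hall : ∀ v, Q v = c → S.InR v) :
    Cfsg.Omega F ⇑Q ≤ S.M := by
  have h5 : 5 ≤ Fintype.card ι := by have := S.big; omega
  refine Orth.omega_le_of_centres S.nd h5 fun z hz0 hQz => ⟨hQz, fun w hu hw => ?_⟩
  by_cases hwz : w ∈ Submodule.span F {z}
  · obtain ⟨s, rfl⟩ := Submodule.mem_span_singleton.1 hwz
    have e : eich z (s • z) hu hw = 1 := act_ext fun x => by
      rw [act_eich, act_one, qsmul, hu, mul_zero, zero_mul, zero_smul, sub_zero, smul_smul,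
        QuadraticMap.polar_smul_right, smul_eq_mul, mul_comm s, add_sub_cancel_right]
    rw [e]; exact one_mem _
  obtain ⟨y₁, hzy₁, hwy₁⟩ := Orth.exists_perp_ne S.nd hwz
  set y₀ := (Q w / B w y₁) • y₁ with hy₀
  have hzy₀ : B z y₀ = 0 := by rw [hy₀, QuadraticMap.polar_smul_right, hzy₁, smul_zero]
  have hwy₀ : B w y₀ = Q w := by
    rw [hy₀, QuadraticMap.polar_smul_right, smul_eq_mul, div_mul_cancel₀ _ hwy₁]
  obtain ⟨e, f, hp, hperp⟩ := SubfieldOrth.exists_pair_fin S.nd ![z, w, y₀] (by have := S.big; omega)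
  have he0 : B z e = 0 := (hperp 0).1
  have hf0 : B z f = 0 := (hperp 0).2
  have he1 : B w e = 0 := (hperp 1).1
  have hf1 : B w f = 0 := (hperp 1).2
  have he2 : B y₀ e = 0 := (hperp 2).1
  have hf2 : B y₀ f = 0 := (hperp 2).2
  set y := y₀ + e + (c - Q y₀) • f with hy
  have hQy : Q y = c := by
    simp only [hy, qadd, qsmul, QuadraticMap.polar_smul_right, QuadraticMap.polar_add_left, he2, hf2, hp.hu,
      hp.hv, hp.huv, smul_eq_mul]
    ring
  have hzy : B z y = 0 := by
    simp only [hy, QuadraticMap.polar_add_right, QuadraticMap.polar_smul_right, hzy₀, he0, hf0, smul_zero, add_zero]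
  have hwy : B w y = Q w := by
    simp only [hy, QuadraticMap.polar_add_right, QuadraticMap.polar_smul_right, hwy₀, he1, hf1, smul_zero, add_zero]
  have hQy' : Q (w - y) = c := by rw [qsub, hQy, hwy]; ring
  have hzy' : B z (w - y) = 0 := by rw [QuadraticMap.polar_sub_right, hw, hzy, sub_zero]
  have key : ∀ u, Q u = c → B z u = 0 → InE S.M z u := by
    intro u hQu hzu
    have hs : S.InR (u + c • z) := hall _ (by
      rw [qadd, qsmul, hQz, QuadraticMap.polar_smul_right, QuadraticMap.polar_comm _ u z, hzu, smul_zero, mul_zero,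
        add_zero, add_zero, hQu])
    have := (hall u hQu).root hQz hzu hs
    rwa [hQu, div_self hc, one_smul] at this
  have h2 := inE_add (key y hQy hzy) (key _ hQy' hzy') hzy hzy'
  rw [add_sub_cancel] at h2
  exact h2 hu hw

end Setup

/-- a vector outside the members with a value in a member -/
theorem exists_omega_not_perm (hQ : (QuadraticMap.polarBilin Q).Nondegenerate) (hn : 9 ≤ Fintype.card ι)
    {D : Fin t → Submodule F (ι → F)} (hD : Cfsg.Geo.IsOrthogonalMDecomposition (⇑Q) k D) (hk : 2 ≤ k)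
    {i : Fin t} {v u : Vec} (hu : u ∈ D i) (h0 : Q v ≠ 0) (h : Q u = Q v) (hv : ∀ j, v ∉ D j) :
    ∃ g ∈ Cfsg.Omega F ⇑Q, ¬ ∃ σ : Equiv.Perm (Fin t), ∀ i, ∀ x ∈ D i, act g x ∈ D (σ i) := by
  set S : Setup Q t k := ⟨hQ, D, hD, hk, hn, ⊤, fun _ _ _ => trivial⟩ with hS
  refine ⟨_, Setup.pair_omega (S := S) h0 h, fun hm => ?_⟩
  have hm' : S.Mono (reflect Q v * reflect Q u) := hm
  have hmv : S.Mono (reflect Q v) := by
    have := Setup.mono_mul hm' (Setup.mono_reflect (S := S) hu)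
    rwa [mul_assoc, reflect_sq, mul_one] at this
  obtain ⟨τ, hτ⟩ := hmv
  obtain ⟨a, ha⟩ : ∃ a, S.pi a v ≠ 0 := by
    by_contra hc
    push Not at hc
    exact hv i (by rw [Setup.pi_ext hc]; exact zero_mem _)
  obtain ⟨b, hba, hb⟩ := Setup.exists_pi_ne (S := S) (hv a)
  obtain ⟨x, hx, hxa, hxs⟩ : ∃ x ∈ S.D a, B x v ≠ 0 ∧ x ∉ Submodule.span F {S.pi a v} := by
    obtain ⟨x, hx, hxa⟩ := Setup.block_nd a _ (Setup.pi_mem a v) ha
    rw [Setup.pi_pair a v hx, QuadraticMap.polar_comm] at hxa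
    by_cases hxs : x ∈ Submodule.span F {S.pi a v}
    swap
    · exact ⟨x, hx, hxa, hxs⟩
    obtain ⟨y, hy, hy0, hyv⟩ := OrthPair.exists_ne_zero_ker ![polB Q v] (V := S.D a)
      (by have := Setup.two_le_rank (S := S) a; omega)
    have hvy : B v y = 0 := hyv 0
    refine ⟨x + y, (S.D a).add_mem hx hy, ?_, fun hc => ?_⟩
    · rwa [QuadraticMap.polar_add_left, QuadraticMap.polar_comm _ y v, hvy, add_zero]
    · obtain ⟨r, hr⟩ := Submodule.mem_span_singleton.1 hxs
      obtain ⟨r', hr'⟩ := Submodule.mem_span_singleton.1 hc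
      have ey : y = (r' - r) • S.pi a v := by rw [sub_smul, hr, hr', add_sub_cancel_left]
      have hval : B (S.pi a v) v ≠ 0 := fun e0 => hxa (by rw [← hr, QuadraticMap.polar_smul_left, e0, smul_zero])
      rw [ey, QuadraticMap.polar_smul_right, QuadraticMap.polar_comm, smul_eq_mul] at hvy
      rcases mul_eq_zero.1 hvy with h1 | h1
      · exact hy0 (by rw [ey, h1, zero_smul])
      · exact hval h1
  set μ := (Q v)⁻¹ * B v x with hμ
  have hμ0 : μ ≠ 0 := mul_ne_zero (inv_ne_zero h0) (by rw [QuadraticMap.polar_comm]; exact hxa)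
  have him := hτ a x hx
  have hcomp : ∀ j, S.pi j (act (reflect Q v) x) = S.pi j x - μ • S.pi j v := fun j => by
    rw [act_reflect, map_sub, map_smul]
  have hnb : S.pi b (act (reflect Q v) x) ≠ 0 := by
    rw [hcomp, Setup.pi_other hba hx, zero_sub, neg_ne_zero]
    exact smul_ne_zero hμ0 hb
  have hna : S.pi a (act (reflect Q v) x) ≠ 0 := by
    rw [hcomp, Setup.pi_self hx, sub_ne_zero]
    exact fun e => hxs (e ▸ Submodule.smul_mem _ _ (Submodule.mem_span_singleton_self _))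
  have e1 : τ a = b := by
    by_contra hc
    exact hnb (Setup.pi_other (Ne.symm hc) him)
  have e2 : τ a = a := by
    by_contra hc
    exact hna (Setup.pi_other (Ne.symm hc) him)
  exact hba (e1.symm.trans e2)

/-- maximality from the containment -/
theorem maximal_of (hQ : (QuadraticMap.polarBilin Q).Nondegenerate) (hn : 9 ≤ Fintype.card ι)
    {D : Fin t → Submodule F (ι → F)} (hD : Cfsg.Geo.IsOrthogonalMDecomposition (⇑Q) k D) (hk : 2 ≤ k)
    (hne : ∃ i, ∃ u ∈ D i, ∃ v : ι → F, Q v ≠ 0 ∧ Q u = Q v ∧ ∀ j, v ∉ D j)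
    (h : ∀ S : Setup Q t k, S.D = D → ∀ g ∈ S.M, ¬ S.Mono g → Cfsg.Omega F ⇑Q ≤ S.M) :
    Cfsg.Geo.IsMaximalIn (Cfsg.Geo.omegaGL ⇑Q)
      (Cfsg.Geo.decompositionStabilizer D ⊓ Cfsg.Geo.omegaGL ⇑Q) := by
  refine Max.isMaximalIn_of inf_le_right (fun hle => ?_) fun N hN hNK g hgN hg => ?_
  · obtain ⟨i, u, hu, v, h0, huv, hv⟩ := hne
    obtain ⟨g, hg, hgm⟩ := exists_omega_not_perm hQ hn hD hk hu h0 huv hv
    obtain ⟨σ, hσ⟩ := (hle (Subgroup.mem_map_of_mem _ hg)).1
    refine hgm ⟨σ, fun i x hx => ?_⟩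
    rw [act_apply, ← Matrix.toLin'_apply, ← hσ i]
    exact Submodule.mem_map_of_mem hx
  · obtain ⟨g', hg', rfl⟩ := Subgroup.mem_map.1 (hNK hgN)
    let S : Setup Q t k := ⟨hQ, D, hD, hk, hn,
      N.comap (Cfsg.isometryGroup F ⇑Q).subtype ⊓ Cfsg.Omega F ⇑Q,
      fun x hx' ⟨σ, hσ⟩ =>
        ⟨hN ⟨⟨σ, fun i => OrthBlocks.img_eq hD (hσ i)⟩, Subgroup.mem_map_of_mem _ hx'⟩, hx'⟩⟩
    have hle := h S rfl g' ⟨hgN, hg'⟩
      (fun ⟨σ, hσ⟩ => hg ⟨⟨σ, fun i => OrthBlocks.img_eq hD (hσ i)⟩, hNK hgN⟩)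
    intro x hx
    obtain ⟨x', hx', rfl⟩ := Subgroup.mem_map.1 hx
    exact (hle hx').1

end Cfsg.Agent.SimpleFacts.OrthDecomp
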