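import Cfsg.Agent.SimpleFacts.OrthDecomp.Basic

/-!
# Isometries realising a permutation of the members
-/

set_option autoImplicit false
set_option linter.unusedSectionVars false

namespace Cfsg.Agent.SimpleFacts.OrthDecomp

open Matrix Cfsg.Agent.Forms Cfsg.Agent.Forms.QuadStd Cfsg.Agent.Forms.Reflections Cfsg.Agent.Classical.Orth
open Cfsg.Agent.Forms.Max

variable {F : Type*} [Field F] [Fintype F] {ι : Type} [Fintype ι] [DecidableEq ι]
variable {Q : QuadraticForm F (ι → F)} {t k : ℕ}

local notation "Vec" => (ι → F)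
local notation "B" => QuadraticMap.polar Q
set_option quotPrecheck false in
local notation "Iso" => Cfsg.isometryGroup F ⇑Q

namespace Setup

variable (S : Setup Q t k)

/-- every permutation of the members comes from an isometry -/
theorem exists_perm (σ : Equiv.Perm (Fin t)) : ∃ g : Iso, ∀ i, ∀ x ∈ S.D i, act g x ∈ S.D (σ i) := by
  choose e he using fun i => S.dec.isometric i (σ i)
  let T : Fin t → Vec →ₗ[F] Vec := fun i =>
    (S.D (σ i)).subtype.comp ((e i).toLinearMap.comp ((S.pi i).codRestrict (S.D i) (pi_mem i)))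
  let L : Vec →ₗ[F] Vec := ∑ i, T i
  have hTmem : ∀ i x, T i x ∈ S.D (σ i) := fun i x => (e i _).2
  have hTQ : ∀ i x, Q (T i x) = Q (S.pi i x) := fun i x => he i _
  have hQL : ∀ x, Q (L x) = Q x := fun x => by
    rw [show L x = ∑ i, T i x from LinearMap.sum_apply _ _ _,
      value_sum _ _ fun i _ j _ hij => orth (fun h => hij (σ.injective h)) (hTmem i x) (hTmem j x),
      S.value_pi x]
    exact Finset.sum_congr rfl fun i _ => hTQ i x
  have hinj : Function.Injective L := by
    refine (injective_iff_map_eq_zero L).2 fun x hx => S.nd.1 x fun y => ?_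
    show B x y = 0
    have h1 := hQL (x + y)
    rw [map_add, hx, zero_add, hQL, qadd] at h1
    have h2 := hQL x
    rw [hx, QuadraticMap.map_zero] at h2
    linear_combination -h1 + h2
  refine ⟨isoOfEquiv ⇑Q (LinearEquiv.ofInjectiveEndo L hinj) (fun x => by simpa using hQL x), fun i x hx => ?_⟩
  rw [act_apply, isoOfEquiv_mulVec, LinearEquiv.coe_ofInjectiveEndo, show L x = ∑ j, T j x from LinearMap.sum_apply _ _ _]
  rw [Finset.sum_eq_single i (fun j _ hji => ?_) (fun h => absurd (Finset.mem_univ i) h)]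
  · exact hTmem i x
  · show ((e j _ : S.D (σ j)) : Vec) = 0
    rw [show (S.pi j).codRestrict (S.D j) (pi_mem j) x = 0 from Subtype.ext (pi_other hji hx), map_zero,
      ZeroMemClass.coe_zero]

theorem exists_mono_pair {i j p q : Fin t} (hij : i ≠ j) (hpq : p ≠ q) :
    ∃ g : Iso, S.Mono g ∧ (∀ x ∈ S.D i, act g x ∈ S.D p) ∧ ∀ x ∈ S.D j, act g x ∈ S.D q := by
  classical
  set σ₁ := Equiv.swap i p
  have h1 : σ₁ i = p := Equiv.swap_apply_left _ _
  have hne : σ₁ j ≠ p := fun e => hij (σ₁.injective (h1.trans e.symm))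
  set σ := Equiv.swap (σ₁ j) q * σ₁
  have h2 : σ i = p := by
    rw [Equiv.Perm.mul_apply, h1, Equiv.swap_apply_of_ne_of_ne (Ne.symm hne) hpq]
  have h3 : σ j = q := by rw [Equiv.Perm.mul_apply, Equiv.swap_apply_left]
  obtain ⟨g, hg⟩ := S.exists_perm σ
  exact ⟨g, ⟨σ, hg⟩, fun x hx => h2 ▸ hg i x hx, fun x hx => h3 ▸ hg j x hx⟩

end Setup

end Cfsg.Agent.SimpleFacts.OrthDecomp
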