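import Cfsg.Agent.SimpleFacts.OrthDecomp.Finish
import Cfsg.Agent.SimpleFacts.OrthDecomp.Perm
import Cfsg.Agent.SimpleFacts.OrthDecomp.EvenBlock

/-!
# Characteristic two, members of dimension at least four

The reflections form one class modulo Omega, so the set of vectors is invariant under all block reflections and
all permuting isometries.
-/

set_option autoImplicit false
set_option linter.unusedSectionVars false

namespace Cfsg.Agent.SimpleFacts.OrthDecomp

open Matrix Cfsg.Agent.Forms Cfsg.Agent.Forms.QuadStd Cfsg.Agent.Forms.Reflections Cfsg.Agent.Classical.Orth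
open Cfsg.Agent.Forms.Max

variable {F : Type*} [Field F] [Fintype F] {ι : Type} [Fintype ι] [DecidableEq ι]
variable {Q : QuadraticForm F (ι → F)} {t k : ℕ}

local notation "Vec" => (ι → F)
local notation "B" => QuadraticMap.polar Q
set_option quotPrecheck false in
local notation "Iso" => Cfsg.isometryGroup F ⇑Q

namespace Setup

variable {S : Setup Q t k}
variable (h2 : (2 : F) = 0) (hk : 4 ≤ k)
  (hex : Fintype.card F = 2 → k = 4 → ∀ i, ¬ Cfsg.Geo.IsPlusTypeOn (⇑Q) (S.D i))

include hk in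
theorem four_le (i : Fin t) : 4 ≤ Module.finrank F (S.D i) := by rw [finrank_block]; exact hk

include h2

theorem InR.block_reflect {v : Vec} (hv : S.InR v) {i : Fin t} {e : Vec} (he : e ∈ S.D i) (he0 : Q e ≠ 0) :
    S.InR (act (reflect Q e) v) := by
  obtain ⟨r, hr⟩ := exists_sqrt h2 (Q v / Q e)
  have hr0 : r ≠ 0 := fun h => div_ne_zero hv.1 he0 (by rw [← hr, h, mul_zero])
  have hQ : Q (r • e) = Q v := by rw [qsmul, hr, div_mul_cancel₀ _ he0]
  have := (inR_single ((S.D i).smul_mem r he) (by rw [hQ]; exact hv.1)).refl hv hQ.symm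
  rwa [Spinor.reflect_smul _ hr0] at this

theorem InR.mono_two {v : Vec} (hv : S.InR v) {g : Iso} (hg : S.Mono g) : S.InR (act g v) := by
  obtain ⟨i, -⟩ : ∃ i : Fin t, i.val = 0 := ⟨⟨0, by have := S.two_le; omega⟩, rfl⟩
  obtain ⟨e, he, hQe⟩ := block_value (S := S) i (one_ne_zero (α := F))
  have he0 : Q e ≠ 0 := by rw [hQe]; exact one_ne_zero
  have hle : refGroup Q ≤ (Subgroup.zpowers (cls (reflect Q e))).comap cls := by
    refine (Subgroup.closure_le _).2 ?_
    rintro _ ⟨w, hw, rfl⟩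
    obtain ⟨r, hr⟩ := exists_sqrt h2 (Q w)
    have hr0 : r ≠ 0 := fun h => hw (by rw [← hr, h, mul_zero])
    show cls (reflect Q w) ∈ Subgroup.zpowers (cls (reflect Q e))
    rw [cls_reflect (S := S) (z' := r • e) hw (by rw [qsmul, hQe, mul_one, hr]), Spinor.reflect_smul _ hr0]
    exact Subgroup.mem_zpowers _
  have := S.big
  have htop := refGroup_eq_top S.nd (Or.inr (show Fintype.card ι ≠ 4 by omega))
  obtain ⟨n, hn⟩ := Subgroup.mem_zpowers_iff.1 (hle (htop ▸ Subgroup.mem_top g))
  have hsq : cls (reflect Q e) * cls (reflect Q e) = 1 := by rw [← map_mul, reflect_sq, map_one]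
  rcases Int.even_or_odd' n with ⟨m, rfl | rfl⟩
  · refine hv.map_block (mem_of_mono (cls_eq_one.1 ?_) hg) hg
    rw [← hn, _root_.zpow_mul, zpow_two, hsq, _root_.one_zpow]
  · have hgo : g * reflect Q e ∈ Cfsg.Omega F ⇑Q := cls_eq_one.1 (by
      rw [map_mul, ← hn, _root_.zpow_add, _root_.zpow_mul, zpow_two, hsq, _root_.one_zpow, one_mul, _root_.zpow_one,
        hsq])
    have hm := mono_mul hg (mono_reflect (S := S) he)
    have := (hv.block_reflect h2 he he0).map_block (mem_of_mono hgo hm) hm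
    rwa [← act_mul, mul_assoc, reflect_sq, mul_one] at this

/-- replacing a component by a vector meeting it -/
theorem InR.replace_one {v : Vec} (hv : S.InR v) {i : Fin t} {x' : Vec} (hx' : x' ∈ S.D i)
    (hQ : Q x' = Q (S.pi i v)) (hB : B (S.pi i v) x' ≠ 0) : S.InR (v + (x' - S.pi i v)) := by
  set x := S.pi i v
  have hxD : x ∈ S.D i := pi_mem i v
  have heD : x' - x ∈ S.D i := (S.D i).sub_mem hx' hxD
  have hQe : Q (x' - x) ≠ 0 := by
    rw [qsub, hQ, QuadraticMap.polar_comm, ← two_mul, h2, zero_mul, zero_sub]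
    exact neg_ne_zero.2 hB
  have := hv.block_reflect h2 heD hQe
  have e1 : act (reflect Q (x' - x)) (v - x) = v - x := reflect_fix (by
    rw [QuadraticMap.polar_sub_right, pair_pi i v heD, sub_self])
  have e2 : act (reflect Q (x' - x)) v = act (reflect Q (x' - x)) (v - x) + act (reflect Q (x' - x)) x := by
    rw [← map_add, sub_add_cancel]
  rw [e2, e1, reflect_diff hQ hQe, sub_add_eq_add_sub] at this
  rwa [add_sub]

include hk hex

/-- replacing a component by a vector of equal value -/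
theorem InR.replace {v : Vec} (hv : S.InR v) {i : Fin t} {x' : Vec} (hx' : x' ∈ S.D i) (hx'0 : x' ≠ 0)
    (hx0 : S.pi i v ≠ 0) (hQ : Q x' = Q (S.pi i v)) : S.InR (v + (x' - S.pi i v)) := by
  by_cases hB : B (S.pi i v) x' = 0
  swap
  · exact hv.replace_one h2 hx' hQ hB
  set x := S.pi i v with hxdef
  have hxD : x ∈ S.D i := pi_mem i v
  have h4 := four_le (S := S) hk i
  obtain ⟨e, he, he0, hxe, hye⟩ : ∃ e ∈ S.D i, Q e ≠ 0 ∧ B x e ≠ 0 ∧ B x' e ≠ 0 := by
    by_cases hs : x' ∈ Submodule.span F {x}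
    · obtain ⟨c, rfl⟩ := Submodule.mem_span_singleton.1 hs
      obtain ⟨e, he, hxe, hQe⟩ := exists_meet_value h2 (block_nd i) h4 hxD hx0 1
      have hc : c ≠ 0 := fun h => hx'0 (by rw [h, zero_smul])
      refine ⟨e, he, by rw [hQe]; exact one_ne_zero, by rw [hxe]; exact one_ne_zero, ?_⟩
      rw [QuadraticMap.polar_smul_left, hxe, smul_eq_mul, mul_one]
      exact hc
    · exact exists_link h2 (block_nd i) h4 (fun hF hW => hex hF (by rwa [finrank_block] at hW) i) hxD hx' hx0 hs hB
  set y := act (reflect Q e) x with hy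
  have hyD : y ∈ S.D i := reflect_block he hxD
  have hxy : B x y ≠ 0 := by
    rw [hy, act_reflect, QuadraticMap.polar_sub_right, polar_self_two h2, zero_sub,
      QuadraticMap.polar_smul_right, smul_eq_mul, QuadraticMap.polar_comm _ e x, neg_ne_zero]
    exact mul_ne_zero (mul_ne_zero (inv_ne_zero he0) hxe) hxe
  have hy' : B y x' ≠ 0 := by
    rw [hy, act_reflect, QuadraticMap.polar_sub_left, hB, zero_sub, QuadraticMap.polar_smul_left, smul_eq_mul,
      QuadraticMap.polar_comm _ e x, QuadraticMap.polar_comm _ e x', neg_ne_zero]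
    exact mul_ne_zero (mul_ne_zero (inv_ne_zero he0) hxe) hye
  have hQy : Q y = Q x := act_map _ _
  have h1 := hv.replace_one h2 hyD hQy hxy
  have e1 : S.pi i (v + (y - x)) = y := by
    rw [map_add, map_sub, pi_self hyD, pi_self hxD, ← hxdef, add_sub_cancel]
  have h3 := h1.replace_one h2 hx' (by rw [e1, hQy]; exact hQ) (by rw [e1]; exact hy')
  rw [e1] at h3
  convert h3 using 1
  abel

omit hex in
theorem exists_nonsing_pair {i : Fin t} {x : Vec} (hx : x ∈ S.D i) (hx0 : x ≠ 0) (hQx : Q x = 0) :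
    ∃ z ∈ S.D i, Q z ≠ 0 ∧ Q (x + z) ≠ 0 := by
  have h4 := four_le (S := S) hk i
  obtain ⟨y, hy, hxy, -⟩ := exists_meet_value h2 (block_nd i) h4 hx hx0 0
  obtain ⟨hP, hP2⟩ := perp_pair h2 (block_nd i) h4 hx hy hxy
  obtain ⟨z, hz, hQz⟩ := exists_value_in hP hP2 (one_ne_zero (α := F))
  have hxz : B x z = 0 := hz.1.2
  refine ⟨z, hz.1.1, by rw [hQz]; exact one_ne_zero, ?_⟩
  rw [qadd, hQx, hQz, hxz, zero_add, add_zero]
  exact one_ne_zero

/-- a member outside the blocks -/
theorem exists_member {g : Iso} (hg : g ∈ S.M) (hgm : ¬ S.Mono g) : ∃ v, S.InR v ∧ ∀ j, v ∉ S.D j := by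
  by_contra hno
  push Not at hno
  have htl := S.two_le
  -- images of the non-singular block vectors are not in blocks
  have hout : ∀ i, ∀ u ∈ S.D i, Q u ≠ 0 → ∀ j, act g u ∉ S.D j := by
    intro i u hu hu0 j hj
    have hall : ∀ l, ∀ u' ∈ S.D l, Q u' ≠ 0 → ∃ j, act g u' ∈ S.D j := by
      intro l u' hu' hu'0
      obtain ⟨r, hr⟩ := exists_sqrt h2 (Q u' / Q u)
      have hQr : Q (r • u) = Q u' := by rw [qsmul, hr, div_mul_cancel₀ _ hu0]
      have hru : act g (r • u) ∈ S.D j := by rw [map_smul]; exact (S.D j).smul_mem _ hj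
      exact hno _ ((inR_single hu' hu'0).map hg ((S.D i).smul_mem r hu) hQr
        (inR_single hru (by rw [act_map, hQr]; exact hu'0)))
    have hblock : ∀ l, ∃ j, ∀ x ∈ S.D l, act g x ∈ S.D j := by
      intro l
      obtain ⟨u₀, hu₀, hQu₀⟩ := block_value (S := S) l (one_ne_zero (α := F))
      have hu₀0 : Q u₀ ≠ 0 := by rw [hQu₀]; exact one_ne_zero
      obtain ⟨j₀, hj₀⟩ := hall l u₀ hu₀ hu₀0
      have hns : ∀ u' ∈ S.D l, Q u' ≠ 0 → act g u' ∈ S.D j₀ := by
        intro u' hu' hu'0
        obtain ⟨j₁, hj₁⟩ := hall l u' hu' hu'0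
        suffices j₀ = j₁ by rw [this]; exact hj₁
        by_cases hB : B u₀ u' = 0
        swap
        · exact Orth.index_of_pair S.dec.decomp hj₀ hj₁ (by rw [act_polar]; exact hB)
        have h4 := four_le (S := S) hk l
        have hu₀n : u₀ ≠ 0 := fun h => hu₀0 (by rw [h, QuadraticMap.map_zero])
        by_cases hs : u' ∈ Submodule.span F {u₀}
        · obtain ⟨c, rfl⟩ := Submodule.mem_span_singleton.1 hs
          have hc : c ≠ 0 := fun h => hu'0 (by rw [h, zero_smul, QuadraticMap.map_zero])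
          refine block_eq (S := S) hj₀ ?_ (fun h => hu₀0 (by rw [← act_map g, h, QuadraticMap.map_zero]))
          have := (S.D j₁).smul_mem c⁻¹ hj₁
          rwa [← map_smul, inv_smul_smul₀ hc] at this
        obtain ⟨e, he, he0, h1, h3⟩ := exists_link h2 (block_nd l) h4
          (fun hF hW => hex hF (by rwa [finrank_block] at hW) l) hu₀ hu' hu₀n hs hB
        obtain ⟨j₂, hj₂⟩ := hall l e he he0
        exact (Orth.index_of_pair S.dec.decomp hj₀ hj₂ (by rw [act_polar]; exact h1)).trans
          (Orth.index_of_pair S.dec.decomp hj₁ hj₂ (by rw [act_polar]; exact h3)).symm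
      refine ⟨j₀, fun x hx => ?_⟩
      rcases eq_or_ne x 0 with rfl | hx0
      · rw [map_zero]; exact zero_mem _
      by_cases hQx : Q x = 0
      swap
      · exact hns x hx hQx
      obtain ⟨z, hz, hz0, hxz⟩ := exists_nonsing_pair h2 hk hx hx0 hQx
      have := (S.D j₀).sub_mem (hns _ ((S.D l).add_mem hx hz) hxz) (hns z hz hz0)
      rwa [← map_sub, add_sub_cancel_right] at this
    choose σ hσ using hblock
    have hsurj : Function.Surjective σ := by
      intro j
      by_contra hmiss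
      push Not at hmiss
      obtain ⟨x, hx, hx0⟩ := exists_block_ne_zero (S := S) j
      have hz : ∀ y, B x (act g y) = 0 := fun y => by
        rw [← sum_pi (S := S) y, map_sum, polar_sum_right]
        exact Finset.sum_eq_zero fun l _ => orth (Ne.symm (hmiss l)) hx (hσ l _ (pi_mem l y))
      refine hx0 (S.nd.1 x fun y => ?_)
      have := hz (act g⁻¹ y)
      rw [act_cancel_inv] at this
      exact this
    exact hgm ⟨Equiv.ofBijective σ ((Finite.surjective_iff_bijective).1 hsurj), hσ⟩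
  obtain ⟨i₀, -⟩ : ∃ i : Fin t, i.val = 0 := ⟨⟨0, by omega⟩, rfl⟩
  obtain ⟨u, hu, hQu⟩ := block_value (S := S) i₀ (one_ne_zero (α := F))
  have hu0 : Q u ≠ 0 := by rw [hQu]; exact one_ne_zero
  set a := act g u with hadef
  obtain ⟨i, hi⟩ : ∃ i, S.pi i a ≠ 0 := by
    by_contra hc
    push Not at hc
    exact hu0 (by rw [← act_map g, ← hadef, pi_ext (S := S) hc, QuadraticMap.map_zero])
  obtain ⟨l, u', hu', hQu', hne⟩ : ∃ l, ∃ u' ∈ S.D l, Q u' = 1 ∧ B (S.pi i a) (act g u') ≠ 0 := by
    by_contra hc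
    push Not at hc
    have hz : ∀ l, ∀ x ∈ S.D l, Q x ≠ 0 → B (S.pi i a) (act g x) = 0 := by
      intro l x hx hQx
      obtain ⟨r, hr⟩ := exists_sqrt h2 (Q x)
      have hr0 : r ≠ 0 := fun h => hQx (by rw [← hr, h, mul_zero])
      have := hc l (r⁻¹ • x) ((S.D l).smul_mem _ hx) (by rw [qsmul, ← hr]; field_simp)
      rw [map_smul, QuadraticMap.polar_smul_right, smul_eq_mul] at this
      exact (mul_eq_zero.1 this).resolve_left (inv_ne_zero hr0)
    refine hi (S.nd.1 _ fun y => ?_)
    show B (S.pi i a) y = 0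
    rw [← act_cancel_inv g y, ← sum_pi (S := S) (act g⁻¹ y), map_sum, polar_sum_right]
    refine Finset.sum_eq_zero fun l _ => ?_
    set x := S.pi l (act g⁻¹ y) with hx
    have hxD : x ∈ S.D l := pi_mem l _
    rcases eq_or_ne x 0 with h0 | h0
    · rw [h0, map_zero, QuadraticMap.polar_zero_right]
    by_cases hQx : Q x = 0
    swap
    · exact hz l x hxD hQx
    obtain ⟨z, hz', hz0, hxz⟩ := exists_nonsing_pair h2 hk hxD h0 hQx
    have h1 := hz l _ ((S.D l).add_mem hxD hz') hxz
    rw [map_add, QuadraticMap.polar_add_right, hz l z hz' hz0, add_zero] at h1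
    exact h1
  set b := act g u' with hbdef
  have hb : B (S.pi i a) (S.pi i b) ≠ 0 := by rwa [pair_pi i b (pi_mem i a)]
  set p := (B (S.pi i a) (S.pi i b))⁻¹ • S.pi i b with hp
  have hpD : p ∈ S.D i := (S.D i).smul_mem _ (pi_mem i b)
  obtain ⟨hP, hP2⟩ := perp_pair h2 (block_nd i) (four_le hk i) (pi_mem i a) hpD
    (by rw [hp, QuadraticMap.polar_smul_right, smul_eq_mul, inv_mul_cancel₀ hb])
  obtain ⟨e₁, he₁, hQe₁⟩ := exists_value_in hP hP2 (one_ne_zero (α := F))
  have ha₁ : B (S.pi i a) e₁ = 0 := he₁.1.2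
  have hb₁ : B (S.pi i b) e₁ = 0 := by
    have h := he₁.2
    change B p e₁ = 0 at h
    rw [hp, QuadraticMap.polar_smul_left, smul_eq_mul] at h
    exact (mul_eq_zero.1 h).resolve_left (inv_ne_zero hb)
  obtain ⟨e, heD, hQe, hae, hbe⟩ : ∃ e ∈ S.D i, Q e ≠ 0 ∧ B (S.pi i a) e = 0 ∧ B (S.pi i b) e ≠ 0 := by
    by_cases hQa : Q (S.pi i a) = 0
    · refine ⟨e₁ + S.pi i a, (S.D i).add_mem he₁.1.1 (pi_mem i a), ?_, ?_, ?_⟩
      · rw [qadd, hQa, hQe₁, QuadraticMap.polar_comm, ha₁, add_zero, add_zero]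
        exact one_ne_zero
      · rw [QuadraticMap.polar_add_right, ha₁, polar_self_two h2, add_zero]
      · rw [QuadraticMap.polar_add_right, hb₁, zero_add, QuadraticMap.polar_comm]
        exact hb
    · exact ⟨_, pi_mem i a, hQa, polar_self_two h2 _, by rwa [QuadraticMap.polar_comm]⟩
  obtain ⟨r, hr⟩ := exists_sqrt h2 (Q e)
  have hm : reflect Q e * reflect Q (r • e₁) ∈ S.M :=
    pair_mem heD ((S.D i).smul_mem _ he₁.1.1) hQe (by rw [qsmul, hQe₁, mul_one, hr])
  set m : Iso := reflect Q e * reflect Q (r • e₁) with hmdef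
  have hfix₁ : ∀ w : Vec, B (S.pi i w) e₁ = 0 → act (reflect Q (r • e₁)) w = w := fun w hw => by
    refine reflect_fix ?_
    rw [QuadraticMap.polar_smul_left, ← pair_pi i w he₁.1.1, QuadraticMap.polar_comm, hw, smul_zero]
  have hma : act m a = a := by
    rw [hmdef, act_mul, hfix₁ a ha₁]
    exact reflect_fix (by rw [← pair_pi i a heD, QuadraticMap.polar_comm, hae])
  have hmb : act m b = act (reflect Q e) b := by rw [hmdef, act_mul, hfix₁ b hb₁]
  have hab : reflect Q a * reflect Q b ∈ S.M := by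
    have := mul_mem (mul_mem hg (pair_mem hu hu' hu0 (hQu'.trans hQu.symm))) (inv_mem hg)
    rw [hadef, hbdef, ← Spinor.reflect_conj, ← Spinor.reflect_conj]
    convert this using 1
    group
  have hmem : reflect Q (act (reflect Q b) e) * reflect Q e ∈ S.M := by
    have h1 := mul_mem (inv_mem hab) (mul_mem (mul_mem hm hab) (inv_mem hm))
    have e1 : reflect Q a = m * reflect Q a * m⁻¹ := by rw [Spinor.reflect_conj, hma]
    have e2 : reflect Q (act (reflect Q e) b) = m * reflect Q b * m⁻¹ := by rw [Spinor.reflect_conj, hmb]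
    rw [← Spinor.reflect_conj, reflect_inv] at e2 ⊢
    have e3 : (reflect Q a * reflect Q b)⁻¹ * (m * (reflect Q a * reflect Q b) * m⁻¹) =
        reflect Q b * (reflect Q a * (m * reflect Q a * m⁻¹)) * (m * reflect Q b * m⁻¹) := by
      rw [_root_.mul_inv_rev, reflect_inv, reflect_inv]
      group
    rw [e3, ← e1, reflect_sq, mul_one, ← e2] at h1
    convert h1 using 1
    simp only [mul_assoc]
  have hR : S.InR (act (reflect Q b) e) := inR_of_pair (inR_single heD hQe) (by rw [act_map]) hmem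
  obtain ⟨j, hj⟩ := hno _ hR
  have hμ : (Q b)⁻¹ * B b e ≠ 0 := mul_ne_zero
    (inv_ne_zero (by rw [hbdef, act_map, hQu']; exact one_ne_zero))
    (by rwa [← pi_pair i b heD])
  rw [act_reflect] at hj
  rcases eq_or_ne j i with rfl | hji
  · refine hout l u' hu' (by rw [hQu']; exact one_ne_zero) j ?_
    have h1 := (S.D j).sub_mem heD hj
    rw [sub_sub_cancel] at h1
    have h3 := (S.D j).smul_mem ((Q b)⁻¹ * B b e)⁻¹ h1
    rwa [inv_smul_smul₀ hμ] at h3
  · have h1 := pi_other (S := S) hji.symm hj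
    rw [map_sub, map_smul, pi_self heD, sub_eq_zero] at h1
    apply hbe
    rw [h1, QuadraticMap.polar_smul_right, polar_self_two h2, smul_zero]

/-- two non-zero components of equal total value one -/
theorem exists_two {g : Iso} (hg : g ∈ S.M) (hgm : ¬ S.Mono g) :
    ∃ i j, i ≠ j ∧ ∃ x ∈ S.D i, ∃ y ∈ S.D j, x ≠ 0 ∧ y ≠ 0 ∧ Q x + Q y = 1 ∧ S.InR (x + y) := by
  classical
  obtain ⟨v₀, hv₀, hout⟩ := exists_member h2 hk hex hg hgm
  obtain ⟨r, hr⟩ := exists_sqrt h2 (Q v₀)⁻¹
  have hr0 : r ≠ 0 := fun h => inv_ne_zero hv₀.1 (by rw [← hr, h, mul_zero])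
  set v := r • v₀ with hvdef
  have hv : S.InR v := hv₀.smul hr0
  have hQv : Q v = 1 := by rw [hvdef, qsmul, hr, inv_mul_cancel₀ hv₀.1]
  obtain ⟨i, hi⟩ : ∃ i, Q (S.pi i v) ≠ 0 := by
    by_contra hc
    push Not at hc
    rw [S.value_pi v, Finset.sum_eq_zero fun i _ => hc i] at hQv
    exact zero_ne_one hQv
  have hx0 : S.pi i v ≠ 0 := fun h => hi (by rw [h, QuadraticMap.map_zero])
  obtain ⟨j, hji, hy0⟩ : ∃ j, j ≠ i ∧ S.pi j v ≠ 0 := exists_pi_ne fun h => hout i (by
    have := (S.D i).smul_mem r⁻¹ h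
    rwa [hvdef, inv_smul_smul₀ hr0] at this)
  set x := S.pi i v with hxdef
  set y := S.pi j v with hydef
  have hxD : x ∈ S.D i := pi_mem i v
  have hyD : y ∈ S.D j := pi_mem j v
  have h4i := four_le (S := S) hk i
  have h4j := four_le (S := S) hk j
  have hxv : ∀ {e : Vec}, e ∈ S.D i → B e v = B e x := fun he => (pair_pi i v he).symm
  have hyv : ∀ {e : Vec}, e ∈ S.D j → B e v = B e y := fun he => (pair_pi j v he).symm
  have finish : ∀ {a b : Vec}, a ∈ S.D i → b ∈ S.D j → a ≠ 0 → b ≠ 0 → Q a + Q b = 1 →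
      S.InR (v + (a + b)) → Q (v + (a + b)) = 1 →
      ∃ i j, i ≠ j ∧ ∃ x ∈ S.D i, ∃ y ∈ S.D j, x ≠ 0 ∧ y ≠ 0 ∧ Q x + Q y = 1 ∧ S.InR (x + y) := by
    intro a b ha hb ha0 hb0 hab hR hQR
    refine ⟨i, j, hji.symm, a, ha, b, hb, ha0, hb0, hab, ?_⟩
    have h1 := hv.diff hR (hQR.trans hQv.symm) (by
      rw [add_sub_cancel_left, qadd, hab, orth hji.symm ha hb, add_zero, hQv])
    rwa [add_sub_cancel_left] at h1
  have hstep : ∀ {β : F}, β ≠ 0 → ∀ {w : Vec} {l : Fin t}, S.InR w → ∀ {e : Vec}, e ∈ S.D l → Q e = β⁻¹ →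
      B e w = 1 → S.InR (w + (-β) • e) ∧ Q (w + (-β) • e) = Q w := by
    intro β hβ w l hw e he hQe hew
    have := hw.block_reflect h2 he (by rw [hQe]; exact inv_ne_zero hβ)
    have e1 : act (reflect Q e) w = w + (-β) • e := by
      rw [act_reflect, hQe, inv_inv, hew, mul_one, neg_smul, sub_eq_add_neg]
    rw [e1] at this
    exact ⟨this, by rw [← e1, act_map]⟩
  by_cases hF : Fintype.card F = 2
  · -- over two elements
    have hQx : Q x = 1 := by
      obtain ⟨c, hc⟩ := ((Fintype.bijective_iff_injective_and_card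
        (fun b : Bool => cond b (1 : F) 0)).2 ⟨fun a b h => by cases a <;> cases b <;> simp_all,
          by rw [Fintype.card_bool, hF]⟩).2 (Q x)
      cases c
      · exact absurd hc.symm hi
      · exact hc.symm
    have h3 : 3 ≤ Module.finrank F ↥(S.D i ⊓ Orth.ker Q x) := by
      have h1 := Orth.finrank_inf_ker S.nd (S.D i) x
      omega
    obtain ⟨z, hz, hz0, hQz⟩ := Orth.exists_sing S.nd h3
    have hxz : B x z = 0 := hz.2
    have hx' : x + z ∈ S.D i := (S.D i).add_mem hxD hz.1
    have hQx' : Q (x + z) = Q x := by rw [qadd, hQz, hxz, add_zero, add_zero]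
    have h1 := hv.replace h2 hk hex hx'
      (fun h => hi (by rw [← hQx', h, QuadraticMap.map_zero])) hx0 hQx'
    rw [← hxdef, add_sub_cancel_left] at h1
    obtain ⟨e, he, hye, hQe⟩ := exists_meet_value h2 (block_nd j) h4j hyD hy0 1
    have hez : B e z = 0 := orth hji he hz.1
    obtain ⟨h3, hQ3⟩ := hstep one_ne_zero h1 he (by rw [hQe, inv_one]) (by
      rw [QuadraticMap.polar_add_right, hyv he, hez, add_zero, QuadraticMap.polar_comm, hye])
    have hQz' : Q (v + z) = 1 := by
      rw [qadd, hQz, hQv, QuadraticMap.polar_comm, hxv hz.1, QuadraticMap.polar_comm, hxz, add_zero, add_zero]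
    rw [add_assoc] at h3 hQ3
    have hne : e ≠ 0 := fun h => by rw [h, QuadraticMap.map_zero] at hQe; exact zero_ne_one hQe
    refine finish hz.1 ((S.D j).smul_mem _ he) hz0 (smul_ne_zero (neg_ne_zero.2 one_ne_zero) hne) ?_ h3
      (by rw [hQ3, hQz'])
    rw [hQz, qsmul, hQe]; ring
  · obtain ⟨β, hβ0, hβ1⟩ : ∃ β : F, β ≠ 0 ∧ 1 + β ≠ 0 := by
      by_contra hc
      push Not at hc
      refine hF (le_antisymm ?_ Fintype.one_lt_card)
      calc Fintype.card F = (Finset.univ : Finset F).card := Finset.card_univ.symm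
        _ ≤ ({0, 1} : Finset F).card := Finset.card_le_card fun c _ => by
            rcases eq_or_ne c 0 with rfl | hc0
            · simp
            · have h1 : c = 1 := by linear_combination hc c hc0 - h2
              simp [h1]
        _ ≤ 2 := Finset.card_le_two
    obtain ⟨e, he, hxe, hQe⟩ := exists_meet_value h2 (block_nd i) h4i hxD hx0 β⁻¹
    obtain ⟨e', he', hye', hQe'⟩ := exists_meet_value h2 (block_nd j) h4j hyD hy0 (1 + β)⁻¹
    obtain ⟨h1, hQ1⟩ := hstep hβ0 hv he hQe (by rw [hxv he, QuadraticMap.polar_comm, hxe])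
    obtain ⟨h3, hQ3⟩ := hstep hβ1 h1 he' hQe' (by
      rw [QuadraticMap.polar_add_right, hyv he', QuadraticMap.polar_smul_right, orth hji he' he, smul_zero, add_zero,
        QuadraticMap.polar_comm, hye'])
    rw [add_assoc] at h3 hQ3
    have hne : e ≠ 0 := fun h => inv_ne_zero hβ0 (by rw [← hQe, h, QuadraticMap.map_zero])
    have hne' : e' ≠ 0 := fun h => inv_ne_zero hβ1 (by rw [← hQe', h, QuadraticMap.map_zero])
    refine finish ((S.D i).smul_mem _ he) ((S.D j).smul_mem _ he') (smul_ne_zero (neg_ne_zero.2 hβ0) hne)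
      (smul_ne_zero (neg_ne_zero.2 hβ1) hne') ?_ h3 (by rw [hQ3, hQ1, hQv])
    rw [qsmul, qsmul, hQe, hQe']
    field_simp
    linear_combination β * h2

/-- every pair of non-zero block vectors with values `a` and `1 + a` gives a member -/
def Lvl (S : Setup Q t k) (a : F) : Prop :=
  ∀ i j, i ≠ j → ∀ x ∈ S.D i, ∀ y ∈ S.D j, x ≠ 0 → y ≠ 0 → Q x = a → Q y = 1 + a → S.InR (x + y)

theorem lvl_of_one {i j : Fin t} (hij : i ≠ j) {x y : Vec} (hx : x ∈ S.D i) (hy : y ∈ S.D j) (hx0 : x ≠ 0)
    (hy0 : y ≠ 0) (h1 : Q x + Q y = 1) (hR : S.InR (x + y)) : S.Lvl (Q x) := by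
  intro p q hpq x' hx' y' hy' hx'0 hy'0 hQx' hQy'
  obtain ⟨g, hg, hgi, hgj⟩ := S.exists_mono_pair hij hpq
  have hR' : S.InR (act g x + act g y) := by rw [← map_add]; exact hR.mono_two h2 hg
  have hgx := hgi x hx
  have hgy := hgj y hy
  have hne : ∀ {w : Vec}, w ≠ 0 → act g w ≠ 0 := fun {w} hw e => hw (by
    rw [← Spinor.act_inv_cancel g w, e, map_zero])
  have e1 : S.pi p (act g x + act g y) = act g x := by
    rw [map_add, pi_self hgx, pi_other hpq hgy, add_zero]
  have h3 := hR'.replace h2 hk hex hx' hx'0 (by rw [e1]; exact hne hx0) (by rw [e1, act_map, hQx'])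
  rw [e1, show act g x + act g y + (x' - act g x) = x' + act g y by abel] at h3
  have e2 : S.pi q (x' + act g y) = act g y := by
    rw [map_add, pi_self hgy, pi_other hpq.symm hx', zero_add]
  have h4 := h3.replace h2 hk hex hy' hy'0 (by rw [e2]; exact hne hy0)
    (by rw [e2, act_map, hQy']; linear_combination -h1 + Q x * h2)
  rwa [e2, show x' + act g y + (y' - act g y) = x' + y' by abel] at h4

omit hk hex in
theorem lvl_symm {a : F} (h : S.Lvl a) : S.Lvl (1 + a) := fun i j hij x hx y hy hx0 hy0 hQx hQy => by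
  rw [add_comm x y]
  exact h j i hij.symm y hy x hx hy0 hx0 (by linear_combination hQy + h2) hQx

theorem lvl_change {a a' : F} (h : S.Lvl a) (ha : a ≠ 1) (ha' : a' ≠ 1) : S.Lvl a' := by
  rcases eq_or_ne a' a with rfl | hne
  · exact h
  have htl := S.two_le
  let i : Fin t := ⟨0, by omega⟩
  let j : Fin t := ⟨1, by omega⟩
  have hij : i ≠ j := fun e => absurd (congrArg Fin.val e) zero_ne_one
  obtain ⟨x, hx, hx0, hQx⟩ : ∃ x ∈ S.D i, x ≠ 0 ∧ Q x = a := by
    obtain ⟨z, hz, hz0⟩ := exists_block_ne_zero (S := S) i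
    obtain ⟨x, hx, hB, hQx⟩ := exists_meet_value h2 (block_nd i) (four_le hk i) hz hz0 a
    exact ⟨x, hx, fun e => by rw [e, QuadraticMap.polar_zero_right] at hB; exact zero_ne_one hB, hQx⟩
  obtain ⟨y, hy, hy0, hQy⟩ : ∃ y ∈ S.D j, y ≠ 0 ∧ Q y = 1 + a := by
    obtain ⟨z, hz, hz0⟩ := exists_block_ne_zero (S := S) j
    obtain ⟨y, hy, hB, hQy⟩ := exists_meet_value h2 (block_nd j) (four_le hk j) hz hz0 (1 + a)
    exact ⟨y, hy, fun e => by rw [e, QuadraticMap.polar_zero_right] at hB; exact zero_ne_one hB, hQy⟩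
  have hv := h i j hij x hx y hy hx0 hy0 hQx hQy
  have hQv : Q (x + y) = 1 := by rw [qadd, hQx, hQy, orth hij hx hy]; linear_combination a * h2
  obtain ⟨β, hβ⟩ := exists_sqrt h2 ((a' + a) / (a + 1))
  have ha1 : a + 1 ≠ 0 := fun e => ha (by linear_combination e - h2)
  have hβa : β * β * (a + 1) = a' + a := by rw [hβ, div_mul_cancel₀ _ ha1]
  have hβ0 : β ≠ 0 := fun e => hne (by rw [e] at hβa; linear_combination -hβa - a * h2)
  have hβ1 : 1 + β ≠ 0 := fun e => ha' (by
    have : β = 1 := by linear_combination e - h2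
    rw [this] at hβa; linear_combination -hβa)
  obtain ⟨e, he, hxe, hQe⟩ := exists_meet_value h2 (block_nd i) (four_le hk i) hx hx0 β⁻¹
  have hye : B e y = 0 := orth hij he hy
  have hex1 : B e x = 1 := by rw [QuadraticMap.polar_comm, hxe]
  have hev : act (reflect Q e) (x + y) = x + y - β • e := by
    rw [act_reflect, hQe, inv_inv, QuadraticMap.polar_add_right, hex1, hye, add_zero, mul_one]
  have h1 := hv.block_reflect h2 he (by rw [hQe]; exact inv_ne_zero hβ0)
  rw [hev] at h1
  have hQ1 : Q (x + y - β • e) = Q (x + y) := by rw [← hev, act_map]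
  have h3 := hv.refl h1 hQ1
  have hB : B (x + y) (x + y - β • e) = β := by
    rw [QuadraticMap.polar_sub_right, polar_self_two h2, QuadraticMap.polar_smul_right, QuadraticMap.polar_add_left,
      hxe, QuadraticMap.polar_comm _ y e, hye, add_zero, smul_eq_mul, mul_one]
    linear_combination -β * h2
  rw [act_reflect, hQv, inv_one, one_mul, hB] at h3
  set X := (1 - β) • x - β • e with hX
  set Y := (1 - β) • y with hY
  have hXY : x + y - β • e - β • (x + y) = X + Y := by rw [hX, hY]; module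
  rw [hXY] at h3
  have hXD : X ∈ S.D i := (S.D i).sub_mem ((S.D i).smul_mem _ hx) ((S.D i).smul_mem _ he)
  have hYD : Y ∈ S.D j := (S.D j).smul_mem _ hy
  have h1β : 1 - β ≠ 0 := fun e' => hβ1 (by linear_combination e' + β * h2)
  have hX0 : X ≠ 0 := fun e0 => by
    have h5 := congrArg (fun w => B x w) e0
    simp only [hX, QuadraticMap.polar_sub_right, QuadraticMap.polar_smul_right, polar_self_two h2, hxe,
      QuadraticMap.polar_zero_right, smul_eq_mul] at h5
    exact hβ0 (by linear_combination -h5)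
  have hQY : Q X + Q Y = 1 := by
    have h5 := h3.1
    have h6 : Q (X + Y) = 1 := by rw [← hXY, ← hQv, ← hQ1, show x + y - β • e - β • (x + y) =
      act (reflect Q (x + y)) (x + y - β • e) by rw [act_reflect, hQv, inv_one, one_mul, hB], act_map]
    rwa [qadd, orth hij hXD hYD, add_zero] at h6
  have hQX : Q X = a' := by
    rw [hX, qsub, qsmul, qsmul, hQx, hQe, QuadraticMap.polar_smul_left, QuadraticMap.polar_smul_right, hxe,
      smul_eq_mul, smul_eq_mul, mul_one]
    field_simp
    linear_combination hβa + (a - a * β) * h2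
  exact hQX ▸ lvl_of_one h2 hk hex hij hXD hYD hX0 (smul_ne_zero h1β hy0) hQY h3

/-- the subgroup contains Omega -/
theorem omega_le_four {g : Iso} (hg : g ∈ S.M) (hgm : ¬ S.Mono g) : Cfsg.Omega F ⇑Q ≤ S.M := by
  classical
  obtain ⟨i₁, j₁, hij₁, x₁, hx₁, y₁, hy₁, hx₁0, hy₁0, h1₁, hR₁⟩ := exists_two h2 hk hex hg hgm
  have h0 := lvl_of_one h2 hk hex hij₁ hx₁ hy₁ hx₁0 hy₁0 h1₁ hR₁
  have hzero : S.Lvl 0 := by
    by_cases ha : Q x₁ = 1
    · have := lvl_symm h2 h0
      rw [ha] at this
      rwa [show (1 : F) + 1 = 0 by linear_combination h2] at this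
    · exact lvl_change h2 hk hex h0 ha zero_ne_one
  have hall : ∀ a, S.Lvl a := fun a => by
    by_cases ha : a = 1
    · have := lvl_symm h2 hzero
      rwa [add_zero, ← ha] at this
    · exact lvl_change h2 hk hex hzero zero_ne_one ha
  refine omega_le_of_value one_ne_zero fun v hQv => ?_
  suffices ∀ n, ∀ v : Vec, Q v = 1 → (Finset.univ.filter fun i => S.pi i v ≠ 0).card = n → S.InR v from
    this _ v hQv rfl
  intro n
  induction n using Nat.strong_induction_on with
  | _ n ih =>
    intro v hQv hn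
    set s := Finset.univ.filter fun i => S.pi i v ≠ 0 with hs
    have hout : ∀ l, l ∉ s → S.pi l v = 0 := fun l hl => by simpa [hs] using hl
    have hsum : v = ∑ l ∈ s, S.pi l v := by
      conv_lhs => rw [← sum_pi (S := S) v]
      exact (Finset.sum_subset (Finset.subset_univ _) fun l _ hl => hout l hl).symm
    have hne : s.Nonempty := by
      by_contra h0'
      rw [Finset.not_nonempty_iff_eq_empty] at h0'
      rw [hsum, h0', Finset.sum_empty, QuadraticMap.map_zero] at hQv
      exact zero_ne_one hQv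
    obtain ⟨i, hi⟩ := hne
    by_cases hsingle : ∀ l, l ≠ i → l ∉ s
    · exact inR_single (mem_of_pi fun l hl => hout l (hsingle l hl)) (by rw [hQv]; exact one_ne_zero)
    push Not at hsingle
    obtain ⟨j, hji, hj⟩ := hsingle
    have hij : i ≠ j := hji.symm
    set x := S.pi i v with hxdef
    set y := S.pi j v with hydef
    have hx0 : x ≠ 0 := (Finset.mem_filter.1 hi).2
    have hy0 : y ≠ 0 := (Finset.mem_filter.1 hj).2
    have hxD : x ∈ S.D i := pi_mem i v
    have hyD : y ∈ S.D j := pi_mem j v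
    by_cases hpair : ∀ l, l ≠ i → l ≠ j → l ∉ s
    · have hv : v = x + y := by
        rw [hsum, show s = {i, j} from ?_, Finset.sum_pair hij]
        ext l
        rw [Finset.mem_insert, Finset.mem_singleton]
        refine ⟨fun hl => ?_, fun hl => by rcases hl with rfl | rfl <;> assumption⟩
        by_contra h
        push Not at h
        exact hpair l h.1 h.2 hl
      rw [hv]
      refine hall (Q x) i j hij x hxD y hyD hx0 hy0 rfl ?_
      rw [hv, qadd, orth hij hxD hyD, add_zero] at hQv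
      linear_combination hQv - Q x * h2
    set L := Q x + Q y with hL
    obtain ⟨z, hz, hxz, hQz⟩ := exists_meet_value h2 (block_nd i) (four_le hk i) hxD hx0 L
    set X := x + z with hX
    have hXD : X ∈ S.D i := (S.D i).add_mem hxD hz
    have hX0 : X ≠ 0 := fun e => by
      have h5 := congrArg (fun w => B x w) e
      simp only [hX, QuadraticMap.polar_add_right, polar_self_two h2, hxz, zero_add,
        QuadraticMap.polar_zero_right] at h5
      exact one_ne_zero h5
    have hQXY : Q y = 1 + Q X := by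
      rw [hX, qadd, hQz, hxz, hL]
      linear_combination -(Q x + 1) * h2
    have hw := hall (Q X) i j hij X hXD y hyD hX0 hy0 rfl hQXY
    set w := X + y with hwdef
    have hQw : Q w = 1 := by rw [hwdef, qadd, hQXY, orth hij hXD hyD]; linear_combination Q X * h2
    have hBw : B w v = 1 := by
      rw [hwdef, QuadraticMap.polar_add_left, ← pair_pi i v hXD, ← pair_pi j v hyD, ← hxdef, ← hydef,
        polar_self_two h2, add_zero, hX, QuadraticMap.polar_add_left, polar_self_two h2, zero_add,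
        QuadraticMap.polar_comm, hxz]
    have hact : act (reflect Q w) v = v - w := by rw [act_reflect, hQw, inv_one, one_mul, hBw, one_smul]
    have hpi : ∀ l, S.pi l (v - w) = S.pi l v - S.pi l X - S.pi l y := fun l => by
      rw [map_sub, hwdef, map_add, sub_add_eq_sub_sub]
    have hlt : (Finset.univ.filter fun l => S.pi l (v - w) ≠ 0).card < n := by
      rw [← hn]
      refine Finset.card_lt_card ((Finset.ssubset_iff_of_subset fun l hl => ?_).2 ⟨j, hj, fun hc => ?_⟩)
      · by_contra hls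
        refine (Finset.mem_filter.1 hl).2 ?_
        have hli : l ≠ i := fun e => hls (e ▸ hi)
        have hlj : l ≠ j := fun e => hls (e ▸ hj)
        rw [hpi, hout l hls, pi_other hli hXD, pi_other hlj hyD, sub_zero, sub_zero]
      · refine (Finset.mem_filter.1 hc).2 ?_
        rw [hpi, pi_other hji hXD, pi_self hyD, ← hydef, sub_zero, sub_self]
    have h6 := ih _ hlt (v - w) (by rw [← hact, act_map, hQv]) rfl
    have h7 := hw.refl h6 (by rw [← hact, act_map, hQv, hQw])
    rwa [← hact, ← act_mul, reflect_sq, act_one] at h7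

end Setup

end Cfsg.Agent.SimpleFacts.OrthDecomp
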